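import Cfsg.Agent.Lib.Helper96.PermMult

/-!
# Sums over subgroups and averaging operators
-/

set_option autoImplicit false
set_option linter.unusedSectionVars false

namespace Cfsg.Agent.Lib.Helper96

open Cfsg
open scoped Classical
open scoped ComplexConjugate

section KS

variable {G : Type*} [Group G] [Fintype G]

/-- Sum of a function over a subgroup, as a sum over the whole group. -/
noncomputable def ksum {M : Type*} [AddCommMonoid M] (K : Subgroup G) (f : G → M) : M :=
  ∑ g : G, if g ∈ K then f g else 0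

theorem ksum_def {M : Type*} [AddCommMonoid M] (K : Subgroup G) (f : G → M) :
    ksum K f = ∑ g : G, if g ∈ K then f g else 0 := rfl

theorem ksum_eq_sum_subtype {M : Type*} [AddCommMonoid M] (K : Subgroup G) [Fintype K]
    (f : G → M) : ksum K f = ∑ k : K, f k := by
  rw [ksum_def, ← Finset.sum_filter]
  symm
  refine Finset.sum_subtype _ ?_ f |>.symm
  intro g
  simp

theorem ksum_congr {M : Type*} [AddCommMonoid M] (K : Subgroup G) {f g : G → M}
    (h : ∀ k ∈ K, f k = g k) : ksum K f = ksum K g := by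
  refine Finset.sum_congr rfl fun k _ => ?_
  split_ifs with hk
  · exact h k hk
  · rfl

theorem ksum_one (K : Subgroup G) : ksum K (fun _ => (1 : ℂ)) = (Nat.card K : ℂ) := by
  rw [ksum_eq_sum_subtype]
  simp [Nat.card_eq_fintype_card]

theorem ksum_add {M : Type*} [AddCommMonoid M] (K : Subgroup G) (f g : G → M) :
    ksum K (fun x => f x + g x) = ksum K f + ksum K g := by
  simp only [ksum_def, ← Finset.sum_add_distrib]
  refine Finset.sum_congr rfl fun k _ => ?_
  split_ifs <;> simp

theorem ksum_mul_left (K : Subgroup G) (c : ℂ) (f : G → ℂ) :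
    ksum K (fun x => c * f x) = c * ksum K f := by
  simp only [ksum_def, Finset.mul_sum]
  refine Finset.sum_congr rfl fun k _ => ?_
  split_ifs <;> simp

theorem ksum_finset_sum {ι : Type*} (K : Subgroup G) (s : Finset ι) (f : ι → G → ℂ) :
    ksum K (fun x => ∑ i ∈ s, f i x) = ∑ i ∈ s, ksum K (f i) := by
  simp only [ksum_def]
  rw [Finset.sum_comm]
  refine Finset.sum_congr rfl fun k _ => ?_
  split_ifs <;> simp

theorem ksum_stabilizer {Ω : Type*} [Fintype Ω] [MulAction G Ω] (a : Ω) (f : G → ℂ) :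
    ksum (MulAction.stabilizer G a) f = tsum f a a := by
  rw [ksum_def, tsum_def]
  refine Finset.sum_congr rfl fun k _ => ?_
  simp only [MulAction.mem_stabilizer_iff]

/-- Reindexing by left translation with an element of the subgroup. -/
theorem ksum_mul_left_mem {M : Type*} [AddCommMonoid M] (K : Subgroup G) (f : G → M) {k : G}
    (hk : k ∈ K) : ksum K (fun x => f (k * x)) = ksum K f := by
  rw [ksum_def, ksum_def]
  refine Fintype.sum_equiv (Equiv.mulLeft k) _ _ ?_
  intro g
  simp only [Equiv.coe_mulLeft, K.mul_mem_cancel_left hk]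

theorem ksum_mul_right_mem {M : Type*} [AddCommMonoid M] (K : Subgroup G) (f : G → M) {k : G}
    (hk : k ∈ K) : ksum K (fun x => f (x * k)) = ksum K f := by
  rw [ksum_def, ksum_def]
  refine Fintype.sum_equiv (Equiv.mulRight k) _ _ ?_
  intro g
  simp only [Equiv.coe_mulRight, K.mul_mem_cancel_right hk]

theorem ksum_le_of_vanish {M : Type*} [AddCommMonoid M] {K L : Subgroup G} (hKL : K ≤ L)
    (f : G → M) (h : ∀ g ∈ L, g ∉ K → f g = 0) : ksum L f = ksum K f := by
  refine Finset.sum_congr rfl fun g _ => ?_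
  by_cases hK : g ∈ K
  · rw [if_pos hK, if_pos (hKL hK)]
  · rw [if_neg hK]
    split_ifs with hL
    · exact h g hL hK
    · rfl

theorem card_ne_zero_of_subgroup (K : Subgroup G) : (Nat.card K : ℂ) ≠ 0 := by
  exact_mod_cast Nat.card_pos.ne'

/-- Coset version of the vanishing lemma. -/
theorem ksum_coset_eq_zero {χ : G → ℂ} (hχ : IsCharacter G χ) (K : Subgroup G)
    (h0 : ksum K χ = 0) (g : G) : ksum K (fun y => χ (g * y)) = 0 := by
  rw [ksum_eq_sum_subtype] at h0 ⊢
  exact sum_coset_eq_zero hχ K h0 g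

/-- Inner products of restrictions of characters are natural numbers. -/
theorem exists_nat_ksum {χ ψ : G → ℂ} (hχ : IsCharacter G χ) (hψ : IsCharacter G ψ)
    (K : Subgroup G) : ∃ n : ℕ, ksum K (fun g => χ g * conj (ψ g)) = n * (Nat.card K : ℂ) := by
  obtain ⟨n, hn⟩ := Helper20.isCharacter_classInner_nat' (Helper20.isCharacter_restrict hχ K)
    (Helper20.isCharacter_restrict hψ K)
  refine ⟨n, ?_⟩
  rw [ksum_eq_sum_subtype]
  unfold classInner at hn
  have hK := card_ne_zero_of_subgroup K
  field_simp at hn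
  rw [hn, mul_comm]

theorem exists_nat_ksum_one {χ : G → ℂ} (hχ : IsCharacter G χ) (K : Subgroup G) :
    ∃ n : ℕ, ksum K χ = n * (Nat.card K : ℂ) := by
  obtain ⟨n, hn⟩ := exists_nat_ksum hχ Helper20.isCharacter_one K
  exact ⟨n, by simpa using hn⟩

end KS

section Avg

variable {G : Type*} [Group G] [Fintype G] {V : Type*} [AddCommGroup V] [Module ℂ V]
  (ρ : Representation ℂ G V)

/-- The averaging operator of a subgroup. -/
noncomputable def avg (K : Subgroup G) : Module.End ℂ V :=
  (Nat.card K : ℂ)⁻¹ • ksum K (fun g => ρ g)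

theorem rho_mul_avg {K : Subgroup G} {k : G} (hk : k ∈ K) : ρ k * avg ρ K = avg ρ K := by
  unfold avg
  rw [mul_smul_comm]
  congr 1
  conv_rhs => rw [← ksum_mul_left_mem K (fun g => ρ g) hk]
  rw [ksum_def, ksum_def, Finset.mul_sum]
  refine Finset.sum_congr rfl fun g _ => ?_
  split_ifs <;> simp

theorem avg_mul_rho {K : Subgroup G} {k : G} (hk : k ∈ K) : avg ρ K * ρ k = avg ρ K := by
  unfold avg
  rw [smul_mul_assoc]
  congr 1
  conv_rhs => rw [← ksum_mul_right_mem K (fun g => ρ g) hk]
  rw [ksum_def, ksum_def, Finset.sum_mul]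
  refine Finset.sum_congr rfl fun g _ => ?_
  split_ifs <;> simp

theorem avg_mul_of_fixed {K : Subgroup G} {E : Module.End ℂ V} (h : ∀ k ∈ K, ρ k * E = E) :
    avg ρ K * E = E := by
  unfold avg
  rw [smul_mul_assoc, ksum_def, Finset.sum_mul]
  have h1 : ∀ g : G, (if g ∈ K then ρ g else 0) * E = (if g ∈ K then (1 : ℂ) else 0) • E := by
    intro g
    split_ifs with hg
    · rw [h g hg, one_smul]
    · simp
  rw [Finset.sum_congr rfl fun g _ => h1 g, ← Finset.sum_smul]
  have h2 : (∑ g : G, if g ∈ K then (1 : ℂ) else 0) = (Nat.card K : ℂ) := ksum_one K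
  rw [h2, smul_smul, inv_mul_cancel₀ (card_ne_zero_of_subgroup K), one_smul]

theorem mul_avg_of_fixed {K : Subgroup G} {E : Module.End ℂ V} (h : ∀ k ∈ K, E * ρ k = E) :
    E * avg ρ K = E := by
  unfold avg
  rw [mul_smul_comm, ksum_def, Finset.mul_sum]
  have h1 : ∀ g : G, E * (if g ∈ K then ρ g else 0) = (if g ∈ K then (1 : ℂ) else 0) • E := by
    intro g
    split_ifs with hg
    · rw [h g hg, one_smul]
    · simp
  rw [Finset.sum_congr rfl fun g _ => h1 g, ← Finset.sum_smul]
  have h2 : (∑ g : G, if g ∈ K then (1 : ℂ) else 0) = (Nat.card K : ℂ) := ksum_one K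
  rw [h2, smul_smul, inv_mul_cancel₀ (card_ne_zero_of_subgroup K), one_smul]

theorem avg_mul_avg_of_le {K L : Subgroup G} (hKL : K ≤ L) : avg ρ K * avg ρ L = avg ρ L :=
  avg_mul_of_fixed ρ fun _ hk => rho_mul_avg ρ (hKL hk)

theorem avg_mul_avg_of_le' {K L : Subgroup G} (hKL : K ≤ L) : avg ρ L * avg ρ K = avg ρ L :=
  mul_avg_of_fixed ρ fun _ hk => avg_mul_rho ρ (hKL hk)

theorem avg_idem (K : Subgroup G) : IsIdempotentElem (avg ρ K) := avg_mul_avg_of_le ρ le_rfl

theorem trace_avg (K : Subgroup G) :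
    LinearMap.trace ℂ V (avg ρ K) = (Nat.card K : ℂ)⁻¹ * ksum K ρ.character := by
  unfold avg
  rw [map_smul, smul_eq_mul, ksum_def, ksum_def, map_sum]
  congr 1
  refine Finset.sum_congr rfl fun g _ => ?_
  split_ifs <;> simp [Representation.character]

theorem avg_eq_of_le [FiniteDimensional ℂ V] {K L : Subgroup G} (hKL : K ≤ L)
    (htr : LinearMap.trace ℂ V (avg ρ K) = LinearMap.trace ℂ V (avg ρ L)) :
    avg ρ K = avg ρ L := by
  have hid : IsIdempotentElem (avg ρ K - avg ρ L) := by
    unfold IsIdempotentElem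
    rw [sub_mul, mul_sub, mul_sub, (avg_idem ρ K).eq, (avg_idem ρ L).eq, avg_mul_avg_of_le ρ hKL,
      avg_mul_avg_of_le' ρ hKL]
    abel
  have h0 := LinearMap.IsIdempotentElem.eq_zero_of_trace_eq_zero hid (by rw [map_sub, htr, sub_self])
  exact sub_eq_zero.1 h0

/-- The subgroup of elements fixing (from the left) a given operator. -/
def fixer (E : Module.End ℂ V) : Subgroup G where
  carrier := {g | ρ g * E = E}
  one_mem' := by simp
  mul_mem' := by
    intro a b ha hb
    simp only [Set.mem_ofPred_eq] at ha hb ⊢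
    rw [map_mul, mul_assoc, hb, ha]
  inv_mem' := by
    intro a ha
    simp only [Set.mem_ofPred_eq] at ha ⊢
    conv_lhs => rw [← ha]
    rw [← mul_assoc, ← map_mul, inv_mul_cancel, map_one, one_mul]

theorem mem_fixer {E : Module.End ℂ V} {g : G} : g ∈ fixer ρ E ↔ ρ g * E = E := Iff.rfl

/-- For a non-principal irreducible character the average over the whole group vanishes. -/
theorem avg_top_eq_zero [FiniteDimensional ℂ V] (h : ∑ g : G, ρ.character g = 0) :
    avg ρ (⊤ : Subgroup G) = 0 := by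
  refine LinearMap.IsIdempotentElem.eq_zero_of_trace_eq_zero (avg_idem ρ ⊤) ?_
  rw [trace_avg, ksum_def]
  simp [h]

end Avg

section Abelian

theorem irr_deg_one_of_comm {A : Type*} [Group A] (hcomm : ∀ a b : A, a * b = b * a)
    {l : A → ℂ} (hl : IsIrrCharacter A l) : l 1 = 1 := by
  obtain ⟨n, ρ, hρ, rfl⟩ := hl
  have : IsMulCommutative A := ⟨⟨hcomm⟩⟩
  rw [Representation.char_one, Representation.IsIrreducible.finrank_eq_one_of_isMulCommutative ρ]
  simp

/-- For a character of an abelian group the norm is at least the degree. -/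
theorem abelian_norm_ge {A : Type*} [Group A] [Fintype A] (hcomm : ∀ a b : A, a * b = b * a)
    {ψ : A → ℂ} (hψ : IsCharacter A ψ) :
    ∃ n d : ℕ, classInner ψ ψ = n ∧ ψ 1 = d ∧ d ≤ n := by
  have : Finite (IrrCharacter A) := Helper20.finite_irrCharacter
  have : Fintype (IrrCharacter A) := Fintype.ofFinite _
  have hm : ∀ l : IrrCharacter A, ∃ n : ℕ, classInner ψ (l : A → ℂ) = n :=
    fun l => Helper20.isCharacter_classInner_nat hψ l.2
  choose m hm using hm
  have hcl := Helper20.isClassFunction_of_isCharacter hψ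
  refine ⟨∑ l, m l ^ 2, ∑ l, m l, ?_, ?_, ?_⟩
  · have hF := Helper20.eq_sum_classInner_smul (G := A) hcl
    conv_lhs => rw [hF]
    rw [Helper20.classInner_sum_left]
    push_cast
    refine Finset.sum_congr rfl fun l _ => ?_
    rw [Helper20.classInner_smul_left, ← hF, ← Helper20.classInner_conj_symm ψ (l : A → ℂ), hm]
    simp [sq]
  · have hF := congrFun (Helper20.eq_sum_classInner_smul (G := A) hcl) 1
    rw [hF]
    simp only [Finset.sum_apply, Pi.smul_apply, smul_eq_mul, hm]
    push_cast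
    refine Finset.sum_congr rfl fun l _ => ?_
    rw [irr_deg_one_of_comm hcomm l.2, mul_one]
  · refine Finset.sum_le_sum fun l _ => ?_
    nlinarith [Nat.zero_le (m l), sq_nonneg ((m l : ℤ) - 1)]

theorem ksum_norm_ge_of_comm {G : Type*} [Group G] [Fintype G] (K : Subgroup G)
    (hcomm : ∀ a ∈ K, ∀ b ∈ K, a * b = b * a) {χ : G → ℂ} (hχ : IsCharacter G χ) :
    ∃ n d : ℕ, ksum K (fun g => χ g * conj (χ g)) = n * (Nat.card K : ℂ) ∧ χ 1 = d ∧ d ≤ n := by
  obtain ⟨n, d, h1, h2, h3⟩ := abelian_norm_ge (A := K)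
    (fun a b => Subtype.ext (hcomm a a.2 b b.2)) (Helper20.isCharacter_restrict hχ K)
  refine ⟨n, d, ?_, h2, h3⟩
  rw [ksum_eq_sum_subtype]
  unfold classInner at h1
  have hK := card_ne_zero_of_subgroup K
  field_simp at h1
  rw [h1, mul_comm]

end Abelian

end Cfsg.Agent.Lib.Helper96
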