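import Mathlib
import Cfsg.Agent.Lib.Helper73.BSW.CharDefs
import Cfsg.Agent.Lib.Helper32.GenChar
import Cfsg.Agent.Lib.Helper20.CharColumn
import Cfsg.Agent.Lib.Helper96.Ksum
import Cfsg.Agent.Lib.Helper4.BSWDual
import Cfsg.Agent.Lib.Helper4.BSWCout
import Cfsg.Agent.Lib.Helper19.BSWGram
import Cfsg.Agent.Lib.Helper19.BSWFrel

/-!
# Brauer–Suzuki–Wall ladder: rung MATRIX
-/

set_option autoImplicit false
set_option linter.style.haveILetI false
set_option linter.unusedSectionVars false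

namespace Cfsg.Agent.Lib.Helper96.BSW

open Cfsg Cfsg.Agent.Lib.Helper73.BSW Cfsg.Agent.Lib.Helper20 Cfsg.Agent.Lib.Helper32
open Cfsg.Agent.Lib.Helper4.BSW Cfsg.Agent.Lib.Helper19.BSW
open scoped ComplexConjugate

universe u

section Abstract

/-- Fourier inversion in the form needed. -/
theorem fourier_aux {A : Type*} [CommGroup A] [Fintype A] [Fintype (A →* ℂˣ)]
    (f : A → ℂ) (cc : (A →* ℂˣ) → ℂ)
    (hc : ∀ lam : A →* ℂˣ, cc lam =
      (Nat.card A : ℂ)⁻¹ * ∑ y : A, (1 - conj ((lam y : ℂˣ) : ℂ)) * f y)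
    (x : A) (hx : x ≠ 1) : f x = - ∑ lam : A →* ℂˣ, cc lam * ((lam x : ℂˣ) : ℂ) := by
  have h1 := dual_fourier f x
  have h2 := dual_sum x hx
  have h3 : ∑ lam : A →* ℂˣ, cc lam * ((lam x : ℂˣ) : ℂ) =
      (Nat.card A : ℂ)⁻¹ * ((∑ y, f y) * ∑ lam : A →* ℂˣ, ((lam x : ℂˣ) : ℂ)) - f x := by
    conv_rhs => rw [h1]
    rw [Finset.mul_sum, Finset.mul_sum, Finset.mul_sum, ← Finset.sum_sub_distrib]
    refine Finset.sum_congr rfl fun lam _ => ?_
    rw [hc]
    have : ∑ y : A, (1 - conj ((lam y : ℂˣ) : ℂ)) * f y =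
        (∑ y, f y) - ∑ y : A, f y * conj ((lam y : ℂˣ) : ℂ) := by
      rw [← Finset.sum_sub_distrib]
      refine Finset.sum_congr rfl fun y _ => ?_
      ring
    rw [this]
    ring
  rw [h3, h2]
  ring

theorem sum_ne {M : Type*} [Fintype M] [DecidableEq M] (e : M) [Fintype {x : M // x ≠ e}]
    (g : M → ℂ) : ∑ x, g x = g e + ∑ l : {x : M // x ≠ e}, g l := by
  rw [← Finset.add_sum_erase _ _ (Finset.mem_univ e)]
  congr 1
  exact Finset.sum_subtype (Finset.univ.erase e) (by simp) g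

end Abstract

variable {G : Type u} [Group G] [Fintype G] {K H : Subgroup G} {t : G}

/-- `K` as a commutative group. -/
@[reducible] def commK (B : Cfg K H t) : CommGroup K :=
  { (inferInstance : Group K) with mul_comm := fun a b => Subtype.ext (B.comm a a.2 b b.2) }

theorem K_dual_card (B : Cfg K H t) : Nat.card (K →* ℂˣ) = Nat.card K := by
  letI := commK B
  exact dual_card

theorem K_dual_sum (B : Cfg K H t) [Fintype (K →* ℂˣ)] (x : K) (hx : x ≠ 1) :
    ∑ lam : K →* ℂˣ, ((lam x : ℂˣ) : ℂ) = 0 := by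
  letI := commK B
  exact dual_sum x hx

theorem K_dual_real_unique (B : Cfg K H t) : ∃! tau : K →* ℂˣ, tau ≠ 1 ∧ tau⁻¹ = tau := by
  letI := commK B
  refine dual_real_unique (⟨t, B.tK⟩ : K) ?_ ?_
  · rw [← B.ot]
    exact Subgroup.orderOf_mk t B.tK
  · intro c hc
    apply Subtype.ext
    apply B.uniq c c.2
    rw [← hc]
    exact (Subgroup.orderOf_coe c)

theorem K_fourier_aux (B : Cfg K H t) [Fintype K] [Fintype (K →* ℂˣ)]
    (f : K → ℂ) (cc : (K →* ℂˣ) → ℂ)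
    (hc : ∀ lam : K →* ℂˣ, cc lam =
      (Nat.card K : ℂ)⁻¹ * ∑ y : K, (1 - conj ((lam y : ℂˣ) : ℂ)) * f y)
    (x : K) (hx : x ≠ 1) : f x = - ∑ lam : K →* ℂˣ, cc lam * ((lam x : ℂˣ) : ℂ) := by
  letI := commK B
  exact fourier_aux f cc hc x hx


/-- Parseval for generalized characters. -/
theorem inner_eq_sum [Fintype (IrrCharacter G)] {θ φ : G → ℂ}
    (hφ : IsGeneralizedCharacter G φ) {a b : IrrCharacter G → ℤ}
    (ha : ∀ χ : IrrCharacter G, classInner θ (χ : G → ℂ) = a χ)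
    (hb : ∀ χ : IrrCharacter G, classInner φ (χ : G → ℂ) = b χ) :
    classInner θ φ = ((∑ χ : IrrCharacter G, a χ * b χ : ℤ) : ℂ) := by
  conv_lhs => rhs; rw [genChar_expand hφ hb]
  rw [classInner_sum_right]
  push_cast
  apply Finset.sum_congr rfl
  intro χ _
  rw [classInner_smul_right, ha]
  simp [mul_comm]

/-- integer coefficients `⟨Ind(1 - lam), χ⟩`. -/
noncomputable def cf (lam : K →* ℂˣ) (χ : IrrCharacter G) : ℤ :=
  Classical.choose (genChar_inner_irr_int (Phi_genChar lam) χ.2)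

theorem cf_spec (lam : K →* ℂˣ) (χ : IrrCharacter G) :
    classInner (Phi K lam) (χ : G → ℂ) = cf lam χ :=
  Classical.choose_spec (genChar_inner_irr_int (Phi_genChar lam) χ.2)

/-- degrees as integers. -/
noncomputable def dg (χ : IrrCharacter G) : ℤ :=
  ((Classical.choose (irr_apply_one χ.2) : ℕ) : ℤ)

theorem dg_pos (χ : IrrCharacter G) : 0 < dg χ := by
  have := (Classical.choose_spec (irr_apply_one χ.2)).1
  unfold dg
  exact_mod_cast this

theorem dg_spec (χ : IrrCharacter G) : (χ : G → ℂ) 1 = dg χ := by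
  have := (Classical.choose_spec (irr_apply_one χ.2)).2
  unfold dg
  refine this.trans ?_
  simp

theorem irr_classFun (χ : IrrCharacter G) : IsClassFunction G (χ : G → ℂ) :=
  genChar_isClassFunction (genChar_of_irr χ.2)

theorem cf_formula [Fintype K] (lam : K →* ℂˣ) (χ : IrrCharacter G) :
    (cf lam χ : ℂ) = (Nat.card K : ℂ)⁻¹ *
      ∑ y : K, (1 - conj ((lam y : ℂˣ) : ℂ)) * (χ : G → ℂ) y := by
  have h1 := cf_spec lam χ
  rw [Phi_recip lam _ (irr_classFun χ), finsum_eq_sum_of_fintype] at h1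
  have h2 := congrArg conj h1
  rw [map_intCast] at h2
  rw [← h2, map_mul, map_inv₀, Complex.conj_natCast, map_sum]
  congr 1
  refine Finset.sum_congr rfl fun y _ => ?_
  rw [map_mul, Complex.conj_conj, map_sub, map_one]

theorem cf_one (χ : IrrCharacter G) : cf (1 : K →* ℂˣ) χ = 0 := by
  classical
  have := cf_formula (1 : K →* ℂˣ) χ
  simp at this
  exact this

theorem val_formula (B : Cfg K H t) [Fintype (K →* ℂˣ)] (χ : IrrCharacter G) (x : K)
    (hx : x ≠ 1) :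
    (χ : G → ℂ) x = - ∑ lam : K →* ℂˣ, (cf lam χ : ℂ) * ((lam x : ℂˣ) : ℂ) := by
  classical
  exact K_fourier_aux B (fun y : K => (χ : G → ℂ) y) (fun lam => (cf lam χ : ℂ))
    (fun lam => cf_formula lam χ) x hx

theorem t_sq (B : Cfg K H t) : t ^ 2 = 1 := by
  rw [← B.ot]; exact pow_orderOf_eq_one t

theorem t_ne_one (B : Cfg K H t) : t ≠ 1 := by
  intro h
  have := B.ot
  rw [h, orderOf_one] at this
  omega

theorem lam_t (B : Cfg K H t) (lam : K →* ℂˣ) :
    ((lam ⟨t, B.tK⟩ : ℂˣ) : ℂ) = 1 ∨ ((lam ⟨t, B.tK⟩ : ℂˣ) : ℂ) = -1 := by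
  have h1 : (lam ⟨t, B.tK⟩) ^ 2 = 1 := by
    rw [← map_pow]
    have : (⟨t, B.tK⟩ : K) ^ 2 = 1 := Subtype.ext (by simpa using t_sq B)
    rw [this, map_one]
  have h2 : (((lam ⟨t, B.tK⟩ : ℂˣ) : ℂ)) ^ 2 = 1 := by
    have := congrArg (fun u : ℂˣ => (u : ℂ)) h1
    simpa using this
  exact sq_eq_one_iff.mp h2

open Classical in
/-- the sign `lam t`. -/
noncomputable def sgn (B : Cfg K H t) (lam : K →* ℂˣ) : ℤ :=
  if ((lam ⟨t, B.tK⟩ : ℂˣ) : ℂ) = 1 then 1 else -1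

theorem sgn_spec (B : Cfg K H t) (lam : K →* ℂˣ) :
    ((sgn B lam : ℤ) : ℂ) = ((lam ⟨t, B.tK⟩ : ℂˣ) : ℂ) := by
  unfold sgn
  rcases lam_t B lam with h | h
  · rw [if_pos h, h]; simp
  · rw [if_neg (by rw [h]; norm_num), h]; simp

theorem sgn_sq (B : Cfg K H t) (lam : K →* ℂˣ) : sgn B lam = 1 ∨ sgn B lam = -1 := by
  unfold sgn
  split_ifs
  · left; rfl
  · right; rfl

theorem sgn_inv (B : Cfg K H t) (lam : K →* ℂˣ) : sgn B lam⁻¹ = sgn B lam := by
  have h : ((sgn B lam⁻¹ : ℤ) : ℂ) = ((sgn B lam : ℤ) : ℂ) := by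
    rw [sgn_spec, sgn_spec, MonoidHom.inv_apply, Units.val_inv_eq_inv_val]
    rcases lam_t B lam with h | h <;> rw [h] <;> norm_num
  exact_mod_cast h


section Fields

variable (B : Cfg K H t) [Fintype (IrrCharacter G)] [Fintype (K →* ℂˣ)]
  [DecidableEq (K →* ℂˣ)] [Fintype {lam : K →* ℂˣ // lam ≠ 1}]

include B

theorem val_L (χ : IrrCharacter G) (x : K) (hx : x ≠ 1) :
    (χ : G → ℂ) x = - ∑ l : {lam : K →* ℂˣ // lam ≠ 1},
      (cf l.1 χ : ℂ) * ((l.1 x : ℂˣ) : ℂ) := by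
  rw [val_formula B χ x hx, sum_ne (1 : K →* ℂˣ), cf_one]
  simp

theorem sum_L_apply (x : K) (hx : x ≠ 1) :
    ∑ l : {lam : K →* ℂˣ // lam ≠ 1}, ((l.1 x : ℂˣ) : ℂ) = -1 := by
  have h := K_dual_sum B x hx
  rw [sum_ne (1 : K →* ℂˣ)] at h
  simp only [MonoidHom.one_apply, Units.val_one] at h
  linear_combination h

theorem val_t (χ : IrrCharacter G) :
    (χ : G → ℂ) t = -((∑ k : {lam : K →* ℂˣ // lam ≠ 1}, cf k.1 χ * sgn B k.1 : ℤ) : ℂ) := by
  have h := val_L B χ ⟨t, B.tK⟩ (fun h => t_ne_one B (congrArg Subtype.val h))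
  rw [show (χ : G → ℂ) t = (χ : G → ℂ) ((⟨t, B.tK⟩ : K) : G) from rfl, h]
  push_cast
  congr 1
  refine Finset.sum_congr rfl fun l _ => ?_
  rw [sgn_spec]

omit B in
theorem sum_K_lam [Fintype K] (lam : K →* ℂˣ) (hl : lam ≠ 1) :
    ∑ x : K, ((lam x : ℂˣ) : ℂ) = 0 := by
  have h := sum_hom_units_eq_zero ((Units.coeHom ℂ).comp lam) (by
    intro h
    apply hl
    ext x
    have := DFunLike.congr_fun h x
    simpa using this)
  simpa using h

omit B in
open Classical in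
theorem sum_K_lam' [Fintype K] (lam : K →* ℂˣ) (hl : lam ≠ 1) :
    ∑ x : K, (if x = 1 then 0 else ((lam x : ℂˣ) : ℂ)) = -1 := by
  have h := sum_K_lam lam hl
  rw [← Finset.add_sum_erase _ _ (Finset.mem_univ (1 : K))] at h
  rw [← Finset.add_sum_erase _ _ (Finset.mem_univ (1 : K))]
  simp only [map_one, Units.val_one, if_true] at h ⊢
  have h2 : ∑ x ∈ Finset.univ.erase (1 : K), (if x = 1 then 0 else ((lam x : ℂˣ) : ℂ)) =
      ∑ x ∈ Finset.univ.erase (1 : K), ((lam x : ℂˣ) : ℂ) := by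
    refine Finset.sum_congr rfl fun x hx => ?_
    rw [if_neg (Finset.ne_of_mem_erase hx)]
  rw [h2]
  linear_combination h

open Classical in
theorem sum_K_chi [Fintype K] (χ : IrrCharacter G) :
    ∑ x : K, (if x = 1 then 0 else (χ : G → ℂ) x) =
      ((∑ k : {lam : K →* ℂˣ // lam ≠ 1}, cf k.1 χ : ℤ) : ℂ) := by
  have h1 : ∀ x : K, (if x = 1 then 0 else (χ : G → ℂ) x) =
      - ∑ l : {lam : K →* ℂˣ // lam ≠ 1},
        (cf l.1 χ : ℂ) * (if x = 1 then 0 else ((l.1 x : ℂˣ) : ℂ)) := by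
    intro x
    by_cases hx : x = 1
    · simp [hx]
    · simp only [if_neg hx]
      exact val_L B χ x hx
  simp_rw [h1]
  rw [Finset.sum_neg_distrib, Finset.sum_comm]
  simp_rw [← Finset.mul_sum]
  push_cast
  rw [← Finset.sum_neg_distrib]
  refine Finset.sum_congr rfl fun l _ => ?_
  rw [sum_K_lam' l.1 l.2]
  ring

theorem val_const (χ : IrrCharacter G) (δ : ℤ)
    (h : ∀ k : {lam : K →* ℂˣ // lam ≠ 1}, cf k.1 χ = δ) (x : G) (hxK : x ∈ K) (hx : x ≠ 1) :
    (χ : G → ℂ) x = δ := by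
  have h1 := val_L B χ ⟨x, hxK⟩ (fun h => hx (congrArg Subtype.val h))
  rw [show (χ : G → ℂ) x = (χ : G → ℂ) ((⟨x, hxK⟩ : K) : G) from rfl, h1]
  simp_rw [h]
  rw [← Finset.mul_sum, sum_L_apply B _ (fun h => hx (congrArg Subtype.val h))]
  ring

theorem card_L : (Fintype.card {lam : K →* ℂˣ // lam ≠ 1} : ℤ) = (Nat.card K : ℤ) - 1 := by
  have h := sum_ne (1 : K →* ℂˣ) (fun _ => (1 : ℂ))
  simp only [Finset.sum_const, Finset.card_univ, nsmul_eq_mul, mul_one] at h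
  have h2 : Fintype.card (K →* ℂˣ) = Nat.card K := by
    rw [← Nat.card_eq_fintype_card]; exact K_dual_card B
  rw [h2] at h
  have h3 : (Nat.card K : ℤ) = 1 + (Fintype.card {lam : K →* ℂˣ // lam ≠ 1} : ℤ) := by
    exact_mod_cast h
  omega

theorem sgn_sum : ∑ l : {lam : K →* ℂˣ // lam ≠ 1}, sgn B l.1 = -1 := by
  have h := sum_L_apply B ⟨t, B.tK⟩ (fun h => t_ne_one B (congrArg Subtype.val h))
  have h2 : ((∑ l : {lam : K →* ℂˣ // lam ≠ 1}, sgn B l.1 : ℤ) : ℂ) = ((-1 : ℤ) : ℂ) := by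
    push_cast
    rw [← h]
    refine Finset.sum_congr rfl fun l _ => sgn_spec B l.1
  exact_mod_cast h2

omit B in
theorem deg_field (lam : K →* ℂˣ) : ∑ χ : IrrCharacter G, cf lam χ * dg χ = 0 := by
  have h := congrFun (genChar_expand (Phi_genChar lam) (cf_spec lam)) 1
  rw [Phi_one] at h
  have h2 : ((∑ χ : IrrCharacter G, cf lam χ * dg χ : ℤ) : ℂ) = 0 := by
    rw [h]
    push_cast
    rw [Finset.sum_apply]
    refine Finset.sum_congr rfl fun χ _ => ?_
    rw [Pi.smul_apply, smul_eq_mul, dg_spec]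
  exact_mod_cast h2

theorem gram_field (lam mu : K →* ℂˣ) (hl : lam ≠ 1) (hm : mu ≠ 1) :
    ∑ χ : IrrCharacter G, cf lam χ * cf mu χ =
      2 + (if lam = mu then 1 else 0) + (if lam = mu⁻¹ then 1 else 0) := by
  have h := inner_eq_sum (Phi_genChar mu) (cf_spec lam) (cf_spec mu)
  rw [Phi_inner B lam mu hl hm] at h
  have h2 : ((∑ χ : IrrCharacter G, cf lam χ * cf mu χ : ℤ) : ℂ) =
      ((2 + (if lam = mu then 1 else 0) + (if lam = mu⁻¹ then 1 else 0) : ℤ) : ℂ) := by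
    rw [← h]
    push_cast
    congr 1
    · congr 1
      split_ifs <;> rfl
    · split_ifs <;> rfl
  exact_mod_cast h2

theorem sumsq_field :
    ∑ χ : IrrCharacter G, dg χ ^ 2 = 2 * (Nat.card K : ℤ) * (H.index : ℤ) := by
  classical
  have h := sum_irr_mul_conj (1 : G) (1 : G)
  rw [if_pos (IsConj.refl 1)] at h
  have hc : Nat.card (Subgroup.centralizer ({1} : Set G)) = Nat.card G := by
    have : Subgroup.centralizer ({1} : Set G) = ⊤ := by
      rw [eq_top_iff]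
      intro g _
      rw [Subgroup.mem_centralizer_iff]
      intro h hh
      rw [Set.mem_singleton_iff.1 hh]
      simp
    rw [this]
    exact Subgroup.card_top
  rw [hc, ← Subgroup.card_mul_index H, cfg_card_H B] at h
  have h2 : ((∑ χ : IrrCharacter G, dg χ ^ 2 : ℤ) : ℂ) =
      ((2 * (Nat.card K : ℤ) * (H.index : ℤ) : ℤ) : ℂ) := by
    push_cast
    push_cast at h
    rw [← h]
    refine Finset.sum_congr rfl fun χ _ => ?_
    rw [dg_spec, map_intCast]
    ring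
  exact_mod_cast h2

theorem frel_field (l : {lam : K →* ℂˣ // lam ≠ 1}) :
    (((H.index : ℤ)) : ℚ) * ∑ χ : IrrCharacter G, (cf l.1 χ : ℚ) *
      ((∑ k : {lam : K →* ℂˣ // lam ≠ 1}, cf k.1 χ * sgn B k.1 : ℤ) : ℚ) ^ 2 / (dg χ : ℚ)
      = 2 * (((Nat.card K : ℤ)) : ℚ) ^ 2 := by
  apply Rat.cast_injective (α := ℂ)
  have h := frel_char B l.1 l.2
  have e1 : ((((H.index : ℤ)) : ℚ) : ℂ) = (H.index : ℂ) := by push_cast; rfl
  have e2 : ((((Nat.card K : ℤ)) : ℚ) : ℂ) = (Nat.card K : ℂ) := by push_cast; rfl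
  rw [Rat.cast_mul, Rat.cast_sum, Rat.cast_mul, Rat.cast_pow, e1, e2, Rat.cast_ofNat, ← h]
  congr 1
  refine Finset.sum_congr rfl fun χ _ => ?_
  rw [cf_spec, val_t B χ, dg_spec, Rat.cast_div, Rat.cast_mul, Rat.cast_pow]
  simp only [Rat.cast_intCast]
  ring

theorem ksum_K_chi (χ : IrrCharacter G) :
    ksum K (χ : G → ℂ) = (dg χ : ℂ) +
      ((∑ k : {lam : K →* ℂˣ // lam ≠ 1}, cf k.1 χ : ℤ) : ℂ) := by
  classical
  rw [ksum_eq_sum_subtype, ← sum_K_chi B χ, ← dg_spec,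
    ← Finset.add_sum_erase _ _ (Finset.mem_univ (1 : K)),
    ← Finset.add_sum_erase (Finset.univ) (fun x : K => if x = 1 then 0 else (χ : G → ℂ) x)
      (Finset.mem_univ (1 : K))]
  simp only [if_true, zero_add, OneMemClass.coe_one]
  congr 1
  refine Finset.sum_congr rfl fun x hx => ?_
  rw [if_neg (Finset.ne_of_mem_erase hx)]

theorem chi_outside (χ : IrrCharacter G) (g : G) (hg : g ∈ H) (hgK : g ∉ K) :
    (χ : G → ℂ) g = (χ : G → ℂ) t := by
  obtain ⟨c, hc⟩ := isConj_iff.1 (B.cj g (B.invol g hg hgK))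
  rw [← hc]
  exact irr_classFun χ t c

theorem ksum_H_chi (χ : IrrCharacter G) :
    ksum H (χ : G → ℂ) = ksum K (χ : G → ℂ) + (Nat.card K : ℂ) * (χ : G → ℂ) t := by
  classical
  have h1 : ksum H (χ : G → ℂ) = ksum H (fun g => (χ : G → ℂ) t * 1 +
      (if g ∈ K then (χ : G → ℂ) g + (-(χ : G → ℂ) t) * 1 else 0)) := by
    refine ksum_congr H fun g hg => ?_
    by_cases hgK : g ∈ K
    · rw [if_pos hgK]; ring
    · rw [if_neg hgK, chi_outside B χ g hg hgK]; ring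
  rw [h1, ksum_add, ksum_mul_left, ksum_one,
    ksum_le_of_vanish B.KH _ (fun g _ hgK => if_neg hgK)]
  have h2 : ksum K (fun g => if g ∈ K then (χ : G → ℂ) g + (-(χ : G → ℂ) t) * 1 else 0) =
      ksum K (fun g => (χ : G → ℂ) g + (-(χ : G → ℂ) t) * 1) :=
    ksum_congr K fun g hg => if_pos hg
  rw [h2, ksum_add, ksum_mul_left, ksum_one, cfg_card_H B]
  push_cast
  ring

theorem integ_field (χ : IrrCharacter G) :
    2 * (Nat.card K : ℤ) ∣ dg χ + ∑ k : {lam : K →* ℂˣ // lam ≠ 1}, cf k.1 χ -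
      (Nat.card K : ℤ) * ∑ k : {lam : K →* ℂˣ // lam ≠ 1}, cf k.1 χ * sgn B k.1 := by
  obtain ⟨N, hN⟩ := exists_nat_ksum_one (isCharacter_of_isIrrCharacter χ.2) H
  rw [ksum_H_chi B χ, ksum_K_chi B χ, val_t B χ, cfg_card_H B] at hN
  refine ⟨N, ?_⟩
  have h : ((dg χ + ∑ k : {lam : K →* ℂˣ // lam ≠ 1}, cf k.1 χ -
      (Nat.card K : ℤ) * ∑ k : {lam : K →* ℂˣ // lam ≠ 1}, cf k.1 χ * sgn B k.1 : ℤ) : ℂ) =
      ((2 * (Nat.card K : ℤ) * N : ℤ) : ℂ) := by
    push_cast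
    push_cast at hN
    linear_combination hN
  exact_mod_cast h

end Fields

theorem cf_inv (B : Cfg K H t) (lam : K →* ℂˣ) (χ : IrrCharacter G) :
    cf lam⁻¹ χ = cf lam χ := by
  have h : ((cf lam⁻¹ χ : ℤ) : ℂ) = ((cf lam χ : ℤ) : ℂ) := by
    rw [← cf_spec, ← cf_spec, Phi_inv B]
  exact_mod_cast h

theorem cf_triv (lam : K →* ℂˣ) (hl : lam ≠ 1) (one : IrrCharacter G)
    (hone : (one : G → ℂ) = fun _ => 1) : cf lam one = 1 := by
  have h : ((cf lam one : ℤ) : ℂ) = ((1 : ℤ) : ℂ) := by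
    rw [← cf_spec, hone, Phi_inner_one lam hl]
    norm_num
  exact_mod_cast h

theorem dg_triv (one : IrrCharacter G)
    (hone : (one : G → ℂ) = fun _ => 1) : dg one = 1 := by
  have h : ((dg one : ℤ) : ℂ) = ((1 : ℤ) : ℂ) := by
    rw [← dg_spec, hone]
    norm_num
  exact_mod_cast h

theorem hom_inv_ne_one (lam : K →* ℂˣ) (hl : lam ≠ 1) : lam⁻¹ ≠ 1 := by
  intro h
  apply hl
  ext x
  have h1 : (lam⁻¹) x = (1 : K →* ℂˣ) x := by rw [h]
  rw [MonoidHom.inv_apply, MonoidHom.one_apply, inv_eq_one] at h1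
  rw [h1, MonoidHom.one_apply]

open Classical in
theorem matrix (B : Cfg K H t) [Fintype (IrrCharacter G)] [DecidableEq (IrrCharacter G)]
    (one : IrrCharacter G) (hone : (one : G → ℂ) = fun _ => 1) :
    ∃ (L : Type u) (_ : Fintype L) (_ : DecidableEq L) (bar : L → L) (tau : L)
      (c : L → IrrCharacter G → ℤ) (d : IrrCharacter G → ℤ) (sg : L → ℤ),
      CData (Nat.card K : ℤ) (H.index : ℤ) bar tau one c d sg ∧
      (∀ χ : IrrCharacter G, (χ : G → ℂ) 1 = d χ) ∧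
      (∀ χ : IrrCharacter G, (χ : G → ℂ) t = -((∑ k, c k χ * sg k : ℤ) : ℂ)) ∧
      (∀ χ : IrrCharacter G, ∑ᶠ x : K, (if x = 1 then 0 else (χ : G → ℂ) x)
        = ((∑ k, c k χ : ℤ) : ℂ)) ∧
      (∀ (χ : IrrCharacter G) (δ : ℤ), (∀ k, c k χ = δ) →
        ∀ x ∈ K, x ≠ 1 → (χ : G → ℂ) x = δ) := by
  haveI : Finite (K →* ℂˣ) :=
    Nat.finite_of_card_ne_zero (by rw [K_dual_card B]; exact Nat.card_pos.ne')
  letI : Fintype (K →* ℂˣ) := Fintype.ofFinite (K →* ℂˣ)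
  letI : Fintype {lam : K →* ℂˣ // lam ≠ 1} := Fintype.ofFinite _
  obtain ⟨tau, ⟨htau1, htau2⟩, huniq⟩ := K_dual_real_unique B
  refine ⟨{lam : K →* ℂˣ // lam ≠ 1}, inferInstance, inferInstance,
    fun l => ⟨l.1⁻¹, hom_inv_ne_one l.1 l.2⟩, ⟨tau, htau1⟩,
    fun l χ => cf l.1 χ, dg, fun l => sgn B l.1, ?_, dg_spec, val_t B, ?_, ?_⟩
  · refine
      { bar_bar := fun l => Subtype.ext (inv_inv l.1)
        bar_eq := fun l => ?_
        cardL := card_L B
        c_bar := fun l χ => cf_inv B l.1 χ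
        c_one := fun l => cf_triv l.1 l.2 one hone
        d_pos := dg_pos
        d_one := dg_triv one hone
        gram := fun l k => ?_
        deg := fun l => deg_field l.1
        sg_sq := fun l => sgn_sq B l.1
        sg_bar := fun l => sgn_inv B l.1
        sg_sum := sgn_sum B
        frel := frel_field B
        sumsq := sumsq_field B
        integ := integ_field B }
    · constructor
      · intro h
        exact Subtype.ext (huniq l.1 ⟨l.2, congrArg Subtype.val h⟩)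
      · intro h
        subst h
        exact Subtype.ext htau2
    · rw [gram_field B l.1 k.1 l.2 k.2]
      simp only [Subtype.ext_iff]
  · intro χ
    rw [finsum_eq_sum_of_fintype]
    exact sum_K_chi B χ
  · intro χ δ h x hxK hx
    exact val_const B χ δ h x hxK hx

end Cfsg.Agent.Lib.Helper96.BSW
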