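import Mathlib

/-!
General lemmas on fixed points of elements in a permutation action, and on the conjugation action
of a finite (simple) group on its Sylow subgroups.
-/

set_option autoImplicit false

namespace Cfsg.Agent.Lib.Helper96

open Subgroup MulAction

section Action
variable {G Ω : Type*} [Group G] [MulAction G Ω]

theorem fixedPoints_zpowers_eq (g : G) : fixedPoints (zpowers g) Ω = fixedBy Ω g := by
  ext Q
  constructor
  · intro h
    exact h ⟨g, mem_zpowers g⟩
  · intro h x
    have h3 : g ∈ stabilizer G Q := h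
    have h4 : zpowers g ≤ stabilizer G Q := (zpowers_le).2 h3
    exact h4 x.2

theorem isPGroup_zpowers (g : G) (r k : ℕ) (hg : orderOf g = r ^ k) : IsPGroup r (zpowers g) :=
  IsPGroup.of_card (n := k) (by rw [Nat.card_zpowers, hg])

theorem card_modEq_card_fixedBy [Finite Ω] (g : G) (r k : ℕ) [Fact r.Prime]
    (hg : orderOf g = r ^ k) : Nat.card Ω ≡ Nat.card (fixedBy Ω g) [MOD r] := by
  have h1 := (isPGroup_zpowers g r k hg).card_modEq_card_fixedPoints Ω
  rw [fixedPoints_zpowers_eq] at h1
  exact h1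

/-- If `g` and `h` commute and `h` is an `r`-element, the number of fixed points of `g` is congruent
mod `r` to the number of common fixed points. -/
theorem card_fixedBy_modEq_inter [Finite Ω] (g h : G) (hc : Commute g h) (r k : ℕ) [Fact r.Prime]
    (hh : orderOf h = r ^ k) :
    Nat.card (fixedBy Ω g) ≡ Nat.card ↥(fixedBy Ω g ∩ fixedBy Ω h) [MOD r] := by
  let F : SubMulAction (zpowers h) Ω :=
    { carrier := fixedBy Ω g
      smul_mem' := by
        intro x Q hQ
        have hQ' : g • Q = Q := hQ
        change g • ((x : G) • Q) = (x : G) • Q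
        obtain ⟨i, hi⟩ := mem_zpowers_iff.1 x.2
        have hcomm : g * (x : G) = (x : G) * g := by
          rw [← hi]; exact (hc.zpow_right i)
        rw [← mul_smul, hcomm, mul_smul, hQ'] }
  have h1 : Nat.card F ≡ Nat.card (fixedPoints (zpowers h) F) [MOD r] :=
    (isPGroup_zpowers h r k hh).card_modEq_card_fixedPoints F
  have h2 : Nat.card (fixedPoints (zpowers h) F) = Nat.card ↥(fixedBy Ω g ∩ fixedBy Ω h) := by
    apply Nat.card_congr
    refine ⟨fun z => ⟨z.1.1, z.1.2, ?_⟩, fun z => ⟨⟨z.1, z.2.1⟩, ?_⟩, ?_, ?_⟩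
    · exact congrArg (fun y : F => (y : Ω)) (z.2 ⟨h, mem_zpowers h⟩)
    · intro x
      apply Subtype.ext
      have h3 : z.1 ∈ fixedPoints (zpowers h) Ω := by
        rw [fixedPoints_zpowers_eq]; exact z.2.2
      exact h3 x
    · intro z; rfl
    · intro z; rfl
  rw [h2] at h1
  exact h1

theorem card_fixedBy_modEq_one [Finite Ω] (g h : G) (hc : Commute g h) (r k : ℕ) [Fact r.Prime]
    (hh : orderOf h = r ^ k) (ω : Ω) (hω : fixedBy Ω h = {ω}) :
    Nat.card (fixedBy Ω g) ≡ 1 [MOD r] := by
  have h1 := card_fixedBy_modEq_inter (Ω := Ω) g h hc r k hh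
  have hω' : h • ω = ω := by
    have : ω ∈ fixedBy Ω h := by rw [hω]; rfl
    exact this
  have h2 : g • ω = ω := by
    have : g • ω ∈ fixedBy Ω h := by
      change h • g • ω = g • ω
      rw [← mul_smul, ← hc.eq, mul_smul, hω']
    rw [hω] at this
    exact this
  have h3 : fixedBy Ω g ∩ fixedBy Ω h = {ω} := by
    rw [hω]
    exact Set.inter_eq_right.2 (Set.singleton_subset_iff.2 h2)
  rw [h3] at h1
  simpa using h1

theorem card_fixedBy_modEq_zero [Finite Ω] (g h : G) (hc : Commute g h) (r k : ℕ) [Fact r.Prime]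
    (hh : orderOf h = r ^ k) (hω : fixedBy Ω h = ∅) :
    Nat.card (fixedBy Ω g) ≡ 0 [MOD r] := by
  have h1 := card_fixedBy_modEq_inter (Ω := Ω) g h hc r k hh
  rw [hω, Set.inter_empty] at h1
  simpa using h1

theorem card_fixedBy_le [Finite Ω] (g : G) : Nat.card (fixedBy Ω g) ≤ Nat.card Ω :=
  Finite.card_subtype_le _

theorem card_fixedBy_ne [Finite Ω] (hf : ∀ g : G, (∀ ω : Ω, g • ω = ω) → g = 1) (g : G)
    (hg : g ≠ 1) : Nat.card (fixedBy Ω g) ≠ Nat.card Ω := by
  intro h
  apply hg
  apply hf
  have huniv : fixedBy Ω g = Set.univ := by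
    rw [Set.eq_univ_iff_ncard]
    exact h
  intro ω
  have : ω ∈ fixedBy Ω g := by rw [huniv]; trivial
  exact this

theorem toPermHom_injective_of_faithful (hf : ∀ g : G, (∀ ω : Ω, g • ω = ω) → g = 1) :
    Function.Injective (MulAction.toPermHom G Ω) := by
  rw [injective_iff_map_eq_one]
  intro g hg
  apply hf
  intro Q
  exact congrArg (fun σ : Equiv.Perm Ω => σ Q) hg

open Classical in
/-- In a faithful action of a simple group of order `> 2`, involutions are even permutations. -/
theorem involution_even [Finite G] [IsSimpleGroup G] [Finite Ω]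
    (hf : ∀ g : G, (∀ ω : Ω, g • ω = ω) → g = 1) (hcard : 2 < Nat.card G) (g : G)
    (hg : orderOf g = 2) : ∃ m : ℕ, Nat.card Ω = Nat.card (fixedBy Ω g) + 4 * m := by
  have : Fintype Ω := Fintype.ofFinite _
  set σ : Equiv.Perm Ω := MulAction.toPerm g with hσ
  have ho : orderOf σ = 2 :=
    (orderOf_injective (MulAction.toPermHom G Ω) (toPermHom_injective_of_faithful hf) g).trans hg
  obtain ⟨n, hn⟩ := Equiv.Perm.cycleType_prime_order (σ := σ) (by rw [ho]; norm_num)
  rw [ho] at hn
  have hfp := Equiv.Perm.card_fixedPoints σ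
  have hle : σ.cycleType.sum ≤ Fintype.card Ω := by
    rw [Equiv.Perm.sum_cycleType]; exact Finset.card_le_univ _
  have hf' : Nat.card (fixedBy Ω g) = Fintype.card (Function.fixedPoints σ) := by
    rw [← Nat.card_eq_fintype_card]; rfl
  rw [hn, Multiset.sum_replicate, smul_eq_mul] at hfp hle
  let φ : G →* ℤˣ := Equiv.Perm.sign.comp (MulAction.toPermHom G Ω)
  have hφ : φ g = 1 := by
    rcases IsSimpleGroup.eq_bot_or_eq_top_of_normal φ.ker inferInstance with h | h
    · exfalso
      have hinj : Function.Injective φ := (MonoidHom.ker_eq_bot_iff φ).1 h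
      have h1 := Nat.card_le_card_of_injective φ hinj
      rw [Nat.card_eq_fintype_card (α := ℤˣ), Fintype.card_units_int] at h1
      omega
    · have : g ∈ φ.ker := by rw [h]; trivial
      exact this
  have hsign : Equiv.Perm.sign σ = 1 := hφ
  rw [Equiv.Perm.sign_of_cycleType, hn, Multiset.sum_replicate, Multiset.card_replicate,
    smul_eq_mul] at hsign
  have heven : Even ((n + 1) * 2 + (n + 1)) := by
    by_contra hodd
    rw [Nat.not_even_iff_odd] at hodd
    rw [hodd.neg_one_pow] at hsign
    exact absurd hsign (by decide)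
  obtain ⟨m, hm⟩ := heven
  refine ⟨m - (n + 1), ?_⟩
  rw [hf', hfp, Nat.card_eq_fintype_card]
  omega

theorem dvd_card_of_dvd_card_orbit [Finite Ω] (d : ℕ) (h : ∀ ω : Ω, d ∣ Nat.card (orbit G ω)) :
    d ∣ Nat.card Ω := by
  have : Fintype (orbitRel.Quotient G Ω) := Fintype.ofFinite _
  rw [Nat.card_congr (selfEquivSigmaOrbits G Ω), Nat.card_sigma]
  exact Finset.dvd_sum fun ω _ => h _

end Action

section Syl
variable {S : Type*} [Group S] {p : ℕ}

theorem sylow_fixed_unique (P Q : Sylow p S) (h : ∀ x ∈ (P : Subgroup S), x • Q = Q) : Q = P := by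
  have h1 : Q ∈ fixedPoints (P : Subgroup S) (Sylow p S) := fun x => h x.1 x.2
  rw [P.2.sylow_mem_fixedPoints_iff] at h1
  exact Sylow.ext (P.3 Q.2 h1)

theorem sylow_smul_self (P : Sylow p S) (x : S) (hx : x ∈ (P : Subgroup S)) : x • P = P :=
  Sylow.smul_eq_iff_mem_normalizer.2 (le_normalizer hx)

theorem le_sylow_of_fixes (D : Subgroup S) (hD : IsPGroup p D) (Q : Sylow p S)
    (h : ∀ d ∈ D, d • Q = Q) : D ≤ Q := by
  have h1 : Q ∈ fixedPoints D (Sylow p S) := fun x => h x.1 x.2
  rwa [hD.sylow_mem_fixedPoints_iff] at h1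

variable [Fact p.Prime]

omit [Fact p.Prime] in
theorem fixes_of_le_sylow (D : Subgroup S) (Q : Sylow p S) (h : D ≤ Q) (d : S) (hd : d ∈ D) :
    d • Q = Q := sylow_smul_self Q d (h hd)

theorem sylow_faithful [Finite S] [IsSimpleGroup S] (hn : 1 < Nat.card (Sylow p S)) (g : S)
    (hg : ∀ Q : Sylow p S, g • Q = Q) : g = 1 := by
  rcases IsSimpleGroup.eq_bot_or_eq_top_of_normal (MulAction.toPermHom S (Sylow p S)).ker
    inferInstance with h | h
  · have : g ∈ (MulAction.toPermHom S (Sylow p S)).ker := by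
      rw [MonoidHom.mem_ker]
      exact Equiv.ext fun Q => hg Q
    rw [h, mem_bot] at this
    exact this
  · exfalso
    have hsub : Subsingleton (Sylow p S) := by
      refine ⟨fun P Q => ?_⟩
      obtain ⟨x, hx⟩ := MulAction.exists_smul_eq S P Q
      have : x ∈ (MulAction.toPermHom S (Sylow p S)).ker := by rw [h]; trivial
      rw [MonoidHom.mem_ker] at this
      have h2 : x • P = P := by
        have := congrArg (fun σ : Equiv.Perm (Sylow p S) => σ P) this
        exact this
      rw [← hx, h2]
    have := Finite.card_le_one_iff_subsingleton.2 hsub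
    omega

theorem card_sylow_mul_card_normalizer [Finite S] (P : Sylow p S) :
    Nat.card (Sylow p S) * Nat.card (normalizer ((P : Subgroup S) : Set S)) = Nat.card S := by
  rw [P.card_eq_index_normalizer]; exact index_mul_card _

theorem card_sylow_eq_card [Finite S] (P Q : Sylow p S) :
    Nat.card (P : Subgroup S) = Nat.card (Q : Subgroup S) := by
  rw [P.card_eq_multiplicity, Q.card_eq_multiplicity]

omit [Fact p.Prime] in
/-- orbit-stabiliser for the action of a Sylow subgroup on the set of Sylow subgroups -/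
theorem card_orbit_mul_card_inf [Finite S] (P Q : Sylow p S) :
    Nat.card (orbit (P : Subgroup S) Q) * Nat.card ((P : Subgroup S) ⊓ Q : Subgroup S)
      = Nat.card (P : Subgroup S) := by
  have h1 := index_stabilizer (P : Subgroup S) Q
  have h1' := (stabilizer (P : Subgroup S) Q).index_mul_card
  have h2 : Nat.card (stabilizer (P : Subgroup S) Q)
      = Nat.card ((P : Subgroup S) ⊓ Q : Subgroup S) := by
    have h3 : stabilizer (P : Subgroup S) Q = ((P : Subgroup S) ⊓ Q : Subgroup S).subgroupOf P := by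
      ext x
      rw [mem_stabilizer_iff, mem_subgroupOf, ← P.2.inf_normalizer_sylow Q, mem_inf]
      constructor
      · intro h
        exact ⟨x.2, Sylow.smul_eq_iff_mem_normalizer.1 h⟩
      · intro h
        exact Sylow.smul_eq_iff_mem_normalizer.2 h.2
    rw [h3]
    exact Nat.card_congr (subgroupOfEquivOfLe inf_le_left).toEquiv
  rw [← h2, ← h1', h1]
  rfl

theorem sylow_card_eq_prime' [Finite S] (R : Sylow p S) (h1 : p ∣ Nat.card S)
    (h2 : ¬ p ^ 2 ∣ Nat.card S) : Nat.card R = p := by
  obtain ⟨k, hk⟩ := IsPGroup.iff_card.1 R.2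
  have h3 := R.dvd_card_of_dvd_card h1
  have h4 := card_subgroup_dvd_card (R : Subgroup S)
  rw [hk] at h3 h4 ⊢
  rcases k with _ | _ | k
  · exfalso
    rw [pow_zero] at h3
    exact (Fact.out : p.Prime).one_lt.ne' (Nat.dvd_one.1 h3)
  · simp
  · exfalso
    exact h2 ((pow_dvd_pow p (by omega)).trans h4)

/-- Burnside's transfer theorem for simple groups. -/
theorem card_eq_of_simple_of_normalizer_le_centralizer' [Finite S] [IsSimpleGroup S]
    (Q : Sylow p S) (hQ : normalizer (Q : Set S) ≤ centralizer (Q : Set S))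
    (hQ1 : Nat.card Q ≠ 1) : Nat.card S = Nat.card Q := by
  have hc := MonoidHom.ker_transferSylow_isComplement' Q hQ
  have hcard := hc.card_mul_card
  rcases IsSimpleGroup.eq_bot_or_eq_top_of_normal (MonoidHom.transferSylow Q hQ).ker inferInstance
    with h | h
  · rw [h] at hcard
    simpa using hcard.symm
  · exfalso
    rw [h, card_top] at hcard
    have h0 : 0 < Nat.card S := Nat.card_pos
    have : Nat.card S * Nat.card Q = Nat.card S * 1 := by rw [mul_one]; exact hcard
    exact hQ1 (Nat.eq_of_mul_eq_mul_left h0 this)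

omit [Fact p.Prime] in
theorem relIndex_centralizer_normalizer_dvd' [Finite S] (Q : Subgroup S) (hQ : IsCyclic Q) :
    (centralizer (Q : Set S)).relIndex (normalizer (Q : Set S)) ∣ Nat.totient (Nat.card Q) := by
  have key := card_dvd_of_injective _ (QuotientGroup.kerLift_injective Q.normalizerMonoidHom)
  rw [normalizerMonoidHom_ker, ← index, ← relIndex, hQ.card_mulAut] at key
  exact key

omit [Fact p.Prime] in
theorem card_centralizer_mul_relIndex [Finite S] (Q : Subgroup S) :
    Nat.card (centralizer (Q : Set S)) *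
      (centralizer (Q : Set S)).relIndex (normalizer (Q : Set S))
      = Nat.card (normalizer (Q : Set S)) := by
  have hC := relIndex_mul_relIndex ⊥ (centralizer (Q : Set S))
    (normalizer (Q : Set S)) bot_le (centralizer_le_normalizer _)
  rwa [relIndex_bot_left, relIndex_bot_left] at hC

/-- For a Sylow subgroup `R` of prime order `p` in a simple group of larger order:
`|N(R)| = |C(R)| * e` with `e ∣ p - 1` and `e ≠ 1`. -/
theorem normalizer_card_of_prime [Finite S] [IsSimpleGroup S] (R : Sylow p S)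
    (hR : Nat.card R = p) (hS : Nat.card S ≠ p) :
    ∃ e : ℕ, e ∣ p - 1 ∧ e ≠ 1 ∧
      Nat.card (normalizer ((R : Subgroup S) : Set S))
        = Nat.card (centralizer ((R : Subgroup S) : Set S)) * e := by
  have hcyc : IsCyclic (R : Subgroup S) := isCyclic_of_prime_card hR
  have hd := relIndex_centralizer_normalizer_dvd' (R : Subgroup S) hcyc
  rw [hR, Nat.totient_prime Fact.out] at hd
  refine ⟨_, hd, ?_, (card_centralizer_mul_relIndex (R : Subgroup S)).symm⟩
  intro h1
  have h2 := relIndex_eq_one.1 h1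
  have h3 := card_eq_of_simple_of_normalizer_le_centralizer' R h2
    (by rw [hR]; exact (Fact.out : p.Prime).one_lt.ne')
  exact hS (h3.trans hR)

omit [Fact p.Prime] in
/-- If `x` generates the Sylow subgroup `P`, its only fixed point is `P`. -/
theorem fixedBy_eq_singleton_of_zpowers (P : Sylow p S) (x : S)
    (hx : zpowers x = (P : Subgroup S)) : fixedBy (Sylow p S) x = {P} := by
  rw [← fixedPoints_zpowers_eq]
  ext Q
  rw [Set.mem_singleton_iff]
  constructor
  · intro h
    apply sylow_fixed_unique P Q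
    intro y hy
    rw [← hx] at hy
    exact h ⟨y, hy⟩
  · rintro rfl y
    apply sylow_smul_self
    rw [← hx]
    exact y.2

end Syl

section NormTrans
variable {G Ω : Type*} [Group G] [Finite G] [MulAction G Ω] [IsPretransitive G Ω]
  {q : ℕ} [Fact q.Prime]

/-- The normaliser of a Sylow subgroup `V` is transitive on the fixed points of `V`. -/
theorem exists_normalizer_smul_eq (V : Sylow q G) (α β : Ω)
    (hα : ∀ v ∈ (V : Subgroup G), v • α = α) (hβ : ∀ v ∈ (V : Subgroup G), v • β = β) :
    ∃ n ∈ normalizer ((V : Subgroup G) : Set G), n • α = β := by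
  obtain ⟨g, hg⟩ := exists_smul_eq G α β
  have h1 : (V : Subgroup G) ≤ stabilizer G α := fun v hv => hα v hv
  have h2 : ((g⁻¹ • V : Sylow q G) : Subgroup G) ≤ stabilizer G α := by
    intro x hx
    rw [Sylow.coe_subgroup_smul, Subgroup.mem_pointwise_smul_iff_inv_smul_mem, MulAut.smul_def,
      MulAut.conj_inv_apply, inv_inv] at hx
    have h3 := hβ _ hx
    rw [mem_stabilizer_iff]
    rw [← hg, ← mul_smul] at h3
    have h4 : g⁻¹ • ((g * x * g⁻¹ * g) • α) = g⁻¹ • (g • α) := by rw [h3]
    simpa [← mul_smul, mul_assoc] using h4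
  obtain ⟨m, hm⟩ := exists_smul_eq (stabilizer G α) ((g⁻¹ • V).subtype h2) (V.subtype h1)
  have hm' : (m : G) • (g⁻¹ • V) = V := by
    rw [Sylow.smul_subtype] at hm
    exact Sylow.subtype_injective hm
  have hn : (m : G) * g⁻¹ ∈ normalizer ((V : Subgroup G) : Set G) := by
    apply Sylow.smul_eq_iff_mem_normalizer.1
    rw [mul_smul, hm']
  refine ⟨((m : G) * g⁻¹)⁻¹, inv_mem hn, ?_⟩
  rw [mul_inv_rev, inv_inv, mul_smul]
  have h5 : (m : G)⁻¹ • α = α := by
    have : (m : G) • α = α := m.2
    rw [inv_smul_eq_iff, this]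
  rw [h5, hg]

theorem card_fixedPoints_dvd_card_normalizer (V : Sylow q G) (α : Ω)
    (hα : ∀ v ∈ (V : Subgroup G), v • α = α) :
    Nat.card (fixedPoints (V : Subgroup G) Ω) ∣ Nat.card (normalizer ((V : Subgroup G) : Set G)) := by
  have h1 : fixedPoints (V : Subgroup G) Ω = orbit (normalizer ((V : Subgroup G) : Set G)) α := by
    ext β
    constructor
    · intro hβ
      obtain ⟨n, hn, hnα⟩ := exists_normalizer_smul_eq V α β hα (fun v hv => hβ ⟨v, hv⟩)
      exact ⟨⟨n, hn⟩, hnα⟩
    · rintro ⟨n, rfl⟩ v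
      change (v : G) • ((n : G) • α) = (n : G) • α
      have h2 : (n : G)⁻¹ * (v : G) * (n : G) ∈ (V : Subgroup G) := by
        have := (mem_normalizer_iff.1 (inv_mem n.2) (v : G)).1 v.2
        simpa using this
      have h3 := hα _ h2
      have h4 : (n : G) • (((n : G)⁻¹ * (v : G) * (n : G)) • α) = (n : G) • α := by rw [h3]
      simpa [← mul_smul, mul_assoc] using h4
  rw [h1]
  have h2 := index_stabilizer (normalizer ((V : Subgroup G) : Set G)) α
  have h3 : Nat.card (orbit (normalizer ((V : Subgroup G) : Set G)) α)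
      = (orbit (normalizer ((V : Subgroup G) : Set G)) α).ncard := rfl
  rw [h3, ← h2]
  exact index_dvd_card _

end NormTrans

end Cfsg.Agent.Lib.Helper96
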