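import Mathlib
import Cfsg.Agent.Lib.Helper18.AutPSL.Split

/-!
# Ladder GS (S2718 + S2719), rung CNT.
-/

set_option autoImplicit false

namespace Cfsg.Agent.Lib.Helper96.GS

theorem count_two {X : Type*} [Group X] (H K : Subgroup X) [K.Normal] (hKH : K ≤ H) (x : X)
    (h2 : K.relIndex H = 2) :
    (Cfsg.splitClassCount H K x = 1 ∨ Cfsg.splitClassCount H K x = 2) ∧
    (H ⊓ Subgroup.centralizer {x} ≤ K → Cfsg.splitClassCount H K x = 2) := by
  have hcount := Cfsg.Agent.Lib.Helper18.AutPSL.splitClassCount_eq H.subtype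
    (QuotientGroup.mk' (K.subgroupOf H)) (QuotientGroup.mk'_surjective _) x
  rw [Subgroup.range_subtype, QuotientGroup.ker_mk', Subgroup.subgroupOf_map_subtype,
    inf_eq_left.2 hKH, Subgroup.index_map, QuotientGroup.ker_mk',
    MonoidHom.range_eq_top.2 (QuotientGroup.mk'_surjective _), Subgroup.index_top, mul_one]
    at hcount
  set C' : Subgroup ↥H := (Subgroup.centralizer {x}).comap H.subtype with hC'
  set K' : Subgroup ↥H := K.subgroupOf H with hK'
  have hK2 : K'.index = 2 := h2
  have hdvd : (C' ⊔ K').index ∣ 2 := by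
    rw [← hK2]; exact Subgroup.index_dvd_of_le le_sup_right
  rw [hcount]
  constructor
  · exact (Nat.dvd_prime Nat.prime_two).mp hdvd
  · intro h
    have hle : C' ≤ K' := by
      intro y hy
      exact h ⟨y.2, hy⟩
    rw [sup_eq_right.2 hle, hK2]

end Cfsg.Agent.Lib.Helper96.GS
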