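import Mathlib

/-!
# Ladder GS (S2718 + S2719), rungs POLY and DET: determinants of matrices with scalar square.
-/

set_option autoImplicit false

namespace Cfsg.Agent.Lib.Helper96.GS

open Polynomial

theorem charpoly_mul_neg {n : Type*} [Fintype n] [DecidableEq n] {F : Type*} [Field F]
    (M : Matrix n n F) (c : F) (hM : M * M = c • (1 : Matrix n n F)) :
    M.charpoly * (-M).charpoly = (X ^ 2 - C c) ^ Fintype.card n := by
  unfold Matrix.charpoly
  rw [← Matrix.det_mul]
  have h : M.charmatrix * (-M).charmatrix = (X ^ 2 - C c) • (1 : Matrix n n F[X]) := by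
    unfold Matrix.charmatrix
    rw [map_neg, sub_neg_eq_add]
    have hcomm : Commute (Matrix.scalar n (X : F[X])) (C.mapMatrix M) :=
      Matrix.scalar_commute _ (fun _ => Commute.all _ _) _
    have h1 : (Matrix.scalar n (X : F[X]) - C.mapMatrix M) * (Matrix.scalar n (X : F[X]) + C.mapMatrix M)
        = Matrix.scalar n (X : F[X]) * Matrix.scalar n (X : F[X]) - C.mapMatrix M * C.mapMatrix M := by
      rw [sub_mul, mul_add, mul_add, hcomm.eq]
      abel
    rw [h1, ← map_mul, ← map_mul, hM]
    ext i j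
    by_cases hij : i = j
    · subst hij
      simp [Matrix.scalar_apply, Matrix.smul_apply, sq]
    · simp [Matrix.scalar_apply, Matrix.smul_apply, hij]
  rw [h, Matrix.det_smul, Matrix.det_one, mul_one]

theorem det_of_charpoly_eq {n : Type*} [Fintype n] [DecidableEq n] {F : Type*} [Field F] (k : ℕ)
    (hn : Fintype.card n = 2 * k) (M : Matrix n n F) (c : F)
    (h : M.charpoly = (X ^ 2 - C c) ^ k) : M.det = (-c) ^ k := by
  rw [Matrix.det_eq_sign_charpoly_coeff, hn, h, pow_mul, neg_one_sq, one_pow, one_mul,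
    Polynomial.coeff_zero_eq_eval_zero]
  simp

theorem det_of_charpoly {n : Type*} [Fintype n] [DecidableEq n] {F : Type*} [Field F]
    (h2 : (2 : F) ≠ 0) (k : ℕ) (hn : Fintype.card n = 2 * k)
    (M : Matrix n n F) (c : F) (hM : M * M = c • (1 : Matrix n n F))
    (hch : (-M).charpoly = M.charpoly) : M.det = (-c) ^ k := by
  apply det_of_charpoly_eq k hn
  have h1 := charpoly_mul_neg M c hM
  rw [hch, hn, pow_mul', ← sq] at h1
  have hmon : ((X : F[X]) ^ 2 - C c).Monic := monic_X_pow_sub_C c (by norm_num)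
  rcases sq_eq_sq_iff_eq_or_eq_neg.mp h1 with h | h
  · exact h
  · exfalso
    have h3 := congrArg Polynomial.leadingCoeff h
    rw [Polynomial.leadingCoeff_neg, (M.charpoly_monic).leadingCoeff, (hmon.pow k).leadingCoeff] at h3
    apply h2
    have : (1 : F) + 1 = 0 := by
      nth_rewrite 1 [h3]
      simp
    rw [← this]; norm_num

theorem det_of_sq {n : Type*} [Fintype n] [DecidableEq n] {F : Type*} [Field F] (k : ℕ)
    (hn : Fintype.card n = 2 * k) (G : Matrix n n F) (c : F) (hc : ¬ IsSquare c)
    (hG : G * G = c • (1 : Matrix n n F)) : G.det = (-c) ^ k := by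
  apply det_of_charpoly_eq k hn
  have h1 := charpoly_mul_neg G c hG
  have hmon : ((X : F[X]) ^ 2 - C c).Monic := monic_X_pow_sub_C c (by norm_num)
  have hirr : Irreducible ((X : F[X]) ^ 2 - C c) := by
    apply X_pow_sub_C_irreducible_of_prime Nat.prime_two
    intro b hb
    exact hc ⟨b, by rw [← hb, sq]⟩
  have hdvd : G.charpoly ∣ ((X : F[X]) ^ 2 - C c) ^ Fintype.card n := Dvd.intro _ h1
  obtain ⟨i, _, hi⟩ := (dvd_prime_pow hirr.prime _).mp hdvd
  have heq : G.charpoly = ((X : F[X]) ^ 2 - C c) ^ i :=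
    Polynomial.eq_of_monic_of_associated G.charpoly_monic (hmon.pow i) hi
  have hdeg := congrArg Polynomial.natDegree heq
  rw [Matrix.charpoly_natDegree_eq_dim, hn, Polynomial.natDegree_pow, natDegree_X_pow_sub_C] at hdeg
  have : i = k := by omega
  rw [heq, this]

end Cfsg.Agent.Lib.Helper96.GS
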