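import Cfsg.Agent.Lib.Helper96.Suborbit

/-!
# Rank and multiplicities of the permutation character
-/

set_option autoImplicit false
set_option linter.unusedSectionVars false

namespace Cfsg.Agent.Lib.Helper96

open Cfsg
open scoped Classical
open scoped ComplexConjugate

section PM

variable {G : Type*} [Group G] [Fintype G] {Ω : Type*} [Fintype Ω] [MulAction G Ω]

theorem isClassFunction_perm :
    IsClassFunction G (fun g : G => (Nat.card (MulAction.fixedBy Ω g) : ℂ)) :=
  Helper20.isClassFunction_of_isCharacter Helper4.isCharacter_fixedBy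

/-- The rank is the norm of the permutation character. -/
theorem rank_eq_classInner [MulAction.IsPretransitive G Ω] (a : Ω) :
    (Nat.card (MulAction.orbitRel.Quotient (MulAction.stabilizer G a) Ω) : ℂ)
      = classInner (fun g : G => (Nat.card (MulAction.fixedBy Ω g) : ℂ))
          (fun g : G => (Nat.card (MulAction.fixedBy Ω g) : ℂ)) := by
  rw [classInner_perm isClassFunction_perm a]
  have h1 := tsum_eq_sum_stab (fun g : G => (Nat.card (MulAction.fixedBy Ω g) : ℂ)) a 1
  rw [one_smul] at h1
  have : Fintype (MulAction.orbitRel.Quotient (MulAction.stabilizer G a) Ω) := Fintype.ofFinite _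
  have h2 := MulAction.sum_card_fixedBy_eq_card_orbits_mul_card_group (MulAction.stabilizer G a) Ω
  have h3 : ∑ h : MulAction.stabilizer G a, (Nat.card (MulAction.fixedBy Ω ((1 : G) * (h : G))) : ℂ)
      = ((∑ h : MulAction.stabilizer G a, Fintype.card (MulAction.fixedBy Ω h) : ℕ) : ℂ) := by
    push_cast
    refine Finset.sum_congr rfl fun h _ => ?_
    rw [one_mul, Nat.card_eq_fintype_card]
    rfl
  rw [h1, h3, h2]
  have hH : (Nat.card (MulAction.stabilizer G a) : ℂ) ≠ 0 := by
    exact_mod_cast Nat.card_pos.ne'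
  rw [Complex.conj_natCast, Nat.card_eq_fintype_card, Nat.card_eq_fintype_card]
  rw [Nat.card_eq_fintype_card] at hH
  push_cast
  field_simp

/-- Multiplicities and degrees of the constituents of a transitive permutation character. -/
theorem perm_mult_data [MulAction.IsPretransitive G Ω] [Fintype (IrrCharacter G)] (a : Ω) :
    ∃ m d : IrrCharacter G → ℕ,
      (∀ χ : IrrCharacter G,
        classInner (fun g : G => (Nat.card (MulAction.fixedBy Ω g) : ℂ)) (χ : G → ℂ) = m χ) ∧
      (∀ χ : IrrCharacter G, (χ : G → ℂ) 1 = d χ) ∧ (∀ χ, 0 < d χ) ∧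
      Nat.card (MulAction.orbitRel.Quotient (MulAction.stabilizer G a) Ω) = ∑ χ, m χ ^ 2 ∧
      Fintype.card Ω = ∑ χ, m χ * d χ := by
  have hm : ∀ χ : IrrCharacter G, ∃ n : ℕ,
      classInner (fun g : G => (Nat.card (MulAction.fixedBy Ω g) : ℂ)) (χ : G → ℂ) = n :=
    fun χ => Helper20.isCharacter_classInner_nat Helper4.isCharacter_fixedBy χ.2
  choose m hm using hm
  have hd : ∀ χ : IrrCharacter G, ∃ n : ℕ, 0 < n ∧ (χ : G → ℂ) 1 = n := fun χ => Helper83.isIrr_one χ.2
  choose d hdpos hd using hd
  have hF := Helper20.eq_sum_classInner_smul (G := G) (isClassFunction_perm (Ω := Ω))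
  simp only [hm] at hF
  refine ⟨m, d, hm, hd, hdpos, ?_, ?_⟩
  · have h1 := rank_eq_classInner (G := G) a
    have h2 : classInner (fun g : G => (Nat.card (MulAction.fixedBy Ω g) : ℂ))
          (fun g : G => (Nat.card (MulAction.fixedBy Ω g) : ℂ))
        = ∑ χ : IrrCharacter G, (m χ : ℂ) * m χ := by
      conv_lhs => rw [hF]
      rw [Helper20.classInner_sum_left]
      refine Finset.sum_congr rfl fun χ _ => ?_
      rw [Helper20.classInner_smul_left, ← Helper20.classInner_conj_symm, ← hF, hm]
      simp
    rw [h2] at h1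
    have : ((Nat.card (MulAction.orbitRel.Quotient (MulAction.stabilizer G a) Ω) : ℕ) : ℂ)
        = ((∑ χ, m χ ^ 2 : ℕ) : ℂ) := by
      rw [h1]; push_cast
      refine Finset.sum_congr rfl fun χ _ => by ring
    exact_mod_cast this
  · have h1 := congrFun hF 1
    simp only [Finset.sum_apply, Pi.smul_apply, smul_eq_mul, hd] at h1
    have h2 : (Nat.card (MulAction.fixedBy Ω (1 : G)) : ℂ) = Fintype.card Ω := by
      rw [card_fixedBy_eq_sum]
      simp
    rw [h2] at h1
    exact_mod_cast h1

/-- The degree is the sum of the subdegrees. -/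
theorem card_eq_sum_orbits (H : Type*) [Group H] [MulAction H Ω]
    [Fintype (MulAction.orbitRel.Quotient H Ω)] :
    Fintype.card Ω = ∑ ω : MulAction.orbitRel.Quotient H Ω, Nat.card ω.orbit := by
  rw [← Nat.card_eq_fintype_card, Nat.card_congr (MulAction.selfEquivSigmaOrbits' H Ω),
    Nat.card_sigma]

end PM

end Cfsg.Agent.Lib.Helper96
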