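import Cfsg.Agent.Lib.Helper96.TSum

/-!
# Suborbits (orbits of a point stabilizer) as finsets
-/

set_option autoImplicit false
set_option linter.unusedSectionVars false

namespace Cfsg.Agent.Lib.Helper96

open Cfsg
open scoped Classical
open scoped ComplexConjugate

section SO

variable (G : Type*) [Group G] {Ω : Type*} [Fintype Ω] [MulAction G Ω]

/-- The orbit of `b` under the stabilizer of `a`, as a finset. -/
noncomputable def suborb (a b : Ω) : Finset Ω :=
  Finset.univ.filter (fun d => ∃ h : G, h • a = a ∧ h • b = d)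

variable {G}

theorem mem_suborb {a b d : Ω} : d ∈ suborb G a b ↔ ∃ h : G, h • a = a ∧ h • b = d := by
  simp [suborb]

theorem self_mem_suborb (a b : Ω) : b ∈ suborb G a b := mem_suborb.2 ⟨1, one_smul _ _, one_smul _ _⟩

theorem coe_suborb (a b : Ω) :
    (suborb G a b : Set Ω) = MulAction.orbit (MulAction.stabilizer G a) b := by
  ext d
  rw [Finset.mem_coe, mem_suborb, MulAction.mem_orbit_iff]
  constructor
  · rintro ⟨h, hh, rfl⟩
    exact ⟨⟨h, hh⟩, rfl⟩
  · rintro ⟨h, rfl⟩
    exact ⟨h, h.2, rfl⟩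

theorem card_suborb (a b : Ω) :
    Nat.card (MulAction.orbit (MulAction.stabilizer G a) b) = (suborb G a b).card := by
  rw [← coe_suborb, Nat.card_coe_set_eq, Set.ncard_coe_finset]

theorem suborb_invariant (a b : Ω) (h : G) (hh : h • a = a) (d : Ω) (hd : d ∈ suborb G a b) :
    h • d ∈ suborb G a b := by
  obtain ⟨k, hk, rfl⟩ := mem_suborb.1 hd
  exact mem_suborb.2 ⟨h * k, by rw [mul_smul, hk, hh], by rw [mul_smul]⟩

theorem suborb_eq_of_mem {a b d : Ω} (hd : d ∈ suborb G a b) : suborb G a d = suborb G a b := by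
  obtain ⟨k, hk, rfl⟩ := mem_suborb.1 hd
  ext e
  rw [mem_suborb, mem_suborb]
  constructor
  · rintro ⟨h, hh, rfl⟩
    exact ⟨h * k, by rw [mul_smul, hk, hh], by rw [mul_smul]⟩
  · rintro ⟨h, hh, rfl⟩
    refine ⟨h * k⁻¹, ?_, by rw [mul_smul, inv_smul_smul]⟩
    rw [mul_smul, inv_smul_eq_iff.2 hk.symm, hh]

theorem not_mem_suborb {a b : Ω} (hab : b ≠ a) : a ∉ suborb G a b := by
  intro h
  obtain ⟨k, hk, hb⟩ := mem_suborb.1 h
  apply hab
  rw [← hk] at hb
  exact smul_left_cancel k (by rw [hb, hk])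

theorem suborb_self (a : Ω) : suborb G a a = {a} := by
  ext d
  rw [mem_suborb, Finset.mem_singleton]
  constructor
  · rintro ⟨h, hh, rfl⟩
    exact hh
  · rintro rfl
    exact ⟨1, one_smul _ _, one_smul _ _⟩

theorem suborb_disjoint {a b c : Ω} (h : c ∉ suborb G a b) :
    Disjoint (suborb G a b) (suborb G a c) := by
  rw [Finset.disjoint_left]
  intro d hd hd'
  apply h
  rw [← suborb_eq_of_mem hd, suborb_eq_of_mem hd']
  exact self_mem_suborb a c

theorem tsum_const_on_suborb [Fintype G] {χ : G → ℂ} (hχ : IsClassFunction G χ) {a b d : Ω}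
    (hd : d ∈ suborb G a b) : tsum χ a d = tsum χ a b := by
  obtain ⟨k, hk, rfl⟩ := mem_suborb.1 hd
  have := tsum_smul hχ k a b
  rwa [hk] at this

theorem mk_eq_iff_mem_suborb (a b d : Ω) :
    (Quotient.mk'' d : MulAction.orbitRel.Quotient (MulAction.stabilizer G a) Ω) = Quotient.mk'' b
      ↔ d ∈ suborb G a b := by
  rw [Quotient.eq'', MulAction.orbitRel_apply, ← coe_suborb, Finset.mem_coe]

/-- Decomposition of the point set for a rank 3 action. -/
theorem rank_three_decomp (a : Ω)
    (hrank : Nat.card (MulAction.orbitRel.Quotient (MulAction.stabilizer G a) Ω) = 3) :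
    ∃ b₁ b₂ : Ω, b₁ ≠ a ∧ b₂ ≠ a ∧ b₂ ∉ suborb G a b₁ ∧
      ∀ d : Ω, d = a ∨ d ∈ suborb G a b₁ ∨ d ∈ suborb G a b₂ := by
  have : Fintype (MulAction.orbitRel.Quotient (MulAction.stabilizer G a) Ω) := Fintype.ofFinite _
  rw [Nat.card_eq_fintype_card] at hrank
  set q₀ : MulAction.orbitRel.Quotient (MulAction.stabilizer G a) Ω := Quotient.mk'' a with hq₀
  have h2 : (Finset.univ.erase q₀).card = 2 := by
    rw [Finset.card_erase_of_mem (Finset.mem_univ _), Finset.card_univ, hrank]
  obtain ⟨q₁, q₂, hne, heq⟩ := Finset.card_eq_two.1 h2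
  obtain ⟨b₁, rfl⟩ := Quotient.exists_rep q₁
  obtain ⟨b₂, rfl⟩ := Quotient.exists_rep q₂
  have hq1 : (Quotient.mk'' b₁ : MulAction.orbitRel.Quotient (MulAction.stabilizer G a) Ω) ≠ q₀ := by
    have : (Quotient.mk'' b₁ : MulAction.orbitRel.Quotient (MulAction.stabilizer G a) Ω)
        ∈ Finset.univ.erase q₀ := by
      rw [heq]; exact Finset.mem_insert_self _ _
    exact Finset.ne_of_mem_erase this
  have hq2 : (Quotient.mk'' b₂ : MulAction.orbitRel.Quotient (MulAction.stabilizer G a) Ω) ≠ q₀ := by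
    have : (Quotient.mk'' b₂ : MulAction.orbitRel.Quotient (MulAction.stabilizer G a) Ω)
        ∈ Finset.univ.erase q₀ := by
      rw [heq]; exact Finset.mem_insert_of_mem (Finset.mem_singleton_self _)
    exact Finset.ne_of_mem_erase this
  refine ⟨b₁, b₂, ?_, ?_, ?_, ?_⟩
  · rintro rfl; exact hq1 rfl
  · rintro rfl; exact hq2 rfl
  · intro h
    exact hne ((mk_eq_iff_mem_suborb a b₁ b₂).2 h).symm
  · intro d
    by_cases hd : (Quotient.mk'' d : MulAction.orbitRel.Quotient (MulAction.stabilizer G a) Ω) = q₀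
    · left
      have := (mk_eq_iff_mem_suborb a a d).1 hd
      rw [suborb_self, Finset.mem_singleton] at this
      exact this
    · right
      have : (Quotient.mk'' d : MulAction.orbitRel.Quotient (MulAction.stabilizer G a) Ω)
          ∈ Finset.univ.erase q₀ := Finset.mem_erase.2 ⟨hd, Finset.mem_univ _⟩
      rw [heq, Finset.mem_insert, Finset.mem_singleton] at this
      rcases this with h | h
      · left; exact (mk_eq_iff_mem_suborb a b₁ d).1 h
      · right; exact (mk_eq_iff_mem_suborb a b₂ d).1 h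

/-- Sum decomposition for a rank 3 action. -/
theorem sum_rank_three {M : Type*} [AddCommMonoid M] {a b₁ b₂ : Ω} (h1 : b₁ ≠ a) (h2 : b₂ ≠ a)
    (h12 : b₂ ∉ suborb G a b₁)
    (hall : ∀ d : Ω, d = a ∨ d ∈ suborb G a b₁ ∨ d ∈ suborb G a b₂) (F : Ω → M) :
    ∑ d : Ω, F d = F a + (∑ d ∈ suborb G a b₁, F d + ∑ d ∈ suborb G a b₂, F d) := by
  have hu : (Finset.univ : Finset Ω) = insert a (suborb G a b₁ ∪ suborb G a b₂) := by
    ext d
    simp only [Finset.mem_univ, Finset.mem_insert, Finset.mem_union, true_iff]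
    exact hall d
  rw [hu, Finset.sum_insert, Finset.sum_union (suborb_disjoint h12)]
  rw [Finset.mem_union]
  rintro (h | h)
  · exact not_mem_suborb h1 h
  · exact not_mem_suborb h2 h

/-- In a primitive action, if the stabilizer of `a` fixes a further point, it acts trivially. -/
theorem stabilizer_trivial_of_fixes [MulAction.IsPreprimitive G Ω] {a b : Ω} (hab : b ≠ a)
    (hfix : ∀ h : G, h • a = a → h • b = b) : ∀ h : G, h • a = a → ∀ c : Ω, h • c = c := by
  have : Nontrivial Ω := ⟨b, a, hab⟩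
  have hco : IsCoatom (MulAction.stabilizer G a) :=
    MulAction.IsPreprimitive.isCoatom_stabilizer_of_isPreprimitive _ a
  have hcob : IsCoatom (MulAction.stabilizer G b) :=
    MulAction.IsPreprimitive.isCoatom_stabilizer_of_isPreprimitive _ b
  have hle : MulAction.stabilizer G a ≤ MulAction.stabilizer G b := fun h hh => hfix h hh
  have heq : MulAction.stabilizer G b = MulAction.stabilizer G a := (hco.le_iff_eq hcob.1).1 hle
  obtain ⟨g, hg⟩ := MulAction.exists_smul_eq G a b
  have hgN : g ∈ Subgroup.normalizer (MulAction.stabilizer G a : Set G) := by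
    rw [Subgroup.mem_normalizer_iff]
    intro x
    have h1 : MulAction.stabilizer G (g • a) = MulAction.stabilizer G a := by rw [hg, heq]
    rw [← h1]
    conv_rhs => rw [MulAction.mem_stabilizer_iff]
    rw [h1, MulAction.mem_stabilizer_iff, mul_smul, mul_smul, inv_smul_smul, smul_left_cancel_iff]
  have hgS : g ∉ MulAction.stabilizer G a := by
    rw [MulAction.mem_stabilizer_iff, hg]; exact hab
  have hNtop : Subgroup.normalizer (MulAction.stabilizer G a : Set G) = ⊤ := by
    apply hco.2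
    apply lt_of_le_of_ne Subgroup.le_normalizer
    intro h1
    rw [h1] at hgS
    exact hgS hgN
  have hnormal : (MulAction.stabilizer G a).Normal := Subgroup.normalizer_eq_top_iff.mp hNtop
  intro x hx y
  obtain ⟨k, hk⟩ := MulAction.exists_smul_eq G a y
  have h1 := hnormal.conj_mem x hx k⁻¹
  rw [MulAction.mem_stabilizer_iff, mul_smul, mul_smul, inv_inv, hk, inv_smul_eq_iff, hk] at h1
  exact h1

end SO

section Col

variable {G : Type*} [Group G] [Fintype G] {Ω : Type*} [Fintype Ω] [MulAction G Ω]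

theorem tsum_add (f g : G → ℂ) (a b : Ω) : tsum (f + g) a b = tsum f a b + tsum g a b := by
  simp only [tsum_def, ← Finset.sum_add_distrib]
  refine Finset.sum_congr rfl fun x _ => ?_
  split_ifs <;> simp

theorem tsum_natCast (f : G → ℕ) (a b : Ω) : ∃ N : ℕ, tsum (fun g => (f g : ℂ)) a b = N := by
  refine ⟨∑ g : G, if g • a = b then f g else 0, ?_⟩
  rw [tsum_def]
  push_cast
  rfl

theorem tsum_diag_of_classInner [MulAction.IsPretransitive G Ω] {χ : G → ℂ}
    (hχ : IsClassFunction G χ) (a : Ω) (n : ℕ)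
    (h : classInner (fun g : G => (Nat.card (MulAction.fixedBy Ω g) : ℂ)) χ = n) :
    tsum χ a a = n * (Nat.card (MulAction.stabilizer G a) : ℂ) := by
  rw [classInner_perm hχ a] at h
  have hH : (Nat.card (MulAction.stabilizer G a) : ℂ) ≠ 0 := by
    exact_mod_cast Nat.card_pos.ne'
  have h1 : conj (tsum χ a a) = n * (Nat.card (MulAction.stabilizer G a) : ℂ) := by
    field_simp at h
    linear_combination h
  have h2 := congrArg conj h1
  simpa using h2

theorem classInner_perm_one [MulAction.IsPretransitive G Ω] [Nonempty Ω] :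
    classInner (fun g : G => (Nat.card (MulAction.fixedBy Ω g) : ℂ)) (fun _ => 1) = 1 := by
  obtain ⟨a⟩ := ‹Nonempty Ω›
  rw [classInner_perm (fun _ _ => rfl) a]
  have := tsum_one_fun (G := G) a 1
  rw [one_smul] at this
  rw [this]
  have hH : (Nat.card (MulAction.stabilizer G a) : ℂ) ≠ 0 := by
    exact_mod_cast Nat.card_pos.ne'
  rw [Complex.conj_natCast, inv_mul_cancel₀ hH]

/-- Column orthogonality summed over a set of points avoiding `a`. -/
theorem col_sum [Fintype (IrrCharacter G)] (a : Ω) (Δ : Finset Ω) (ha : a ∉ Δ) :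
    ∑ χ : IrrCharacter G, (χ : G → ℂ) 1 * ∑ d ∈ Δ, tsum (χ : G → ℂ) a d = 0 := by
  simp only [Finset.mul_sum]
  rw [Finset.sum_comm]
  refine Finset.sum_eq_zero fun d hd => ?_
  rw [sum_irr_deg_mul_tsum, if_neg]
  rintro rfl
  exact ha hd

/-- Column orthogonality restricted to the constituents of the permutation character. -/
theorem col_sum_constituents [MulAction.IsPretransitive G Ω] [Fintype (IrrCharacter G)] (a : Ω)
    (Δ : Finset Ω) (ha : a ∉ Δ) (S : Finset (IrrCharacter G))
    (hS : ∀ χ : IrrCharacter G,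
      classInner (fun g : G => (Nat.card (MulAction.fixedBy Ω g) : ℂ)) (χ : G → ℂ) ≠ 0 → χ ∈ S) :
    ∑ χ ∈ S, (χ : G → ℂ) 1 * ∑ d ∈ Δ, tsum (χ : G → ℂ) a d = 0 := by
  rw [← col_sum (G := G) a Δ ha]
  refine Finset.sum_subset (Finset.subset_univ _) ?_
  intro χ _ hχ
  have h0 : classInner (fun g : G => (Nat.card (MulAction.fixedBy Ω g) : ℂ)) (χ : G → ℂ) = 0 := by
    by_contra h
    exact hχ (hS χ h)
  have hch := Helper20.isCharacter_of_isIrrCharacter χ.2
  have h1 := tsum_diag_of_classInner (Helper20.isClassFunction_of_isCharacter hch) a 0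
    (by simpa using h0)
  rw [Finset.sum_eq_zero, mul_zero]
  intro d _
  exact tsum_eq_zero_of_diag hch a (by simpa using h1) d

end Col

end Cfsg.Agent.Lib.Helper96
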