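import Mathlib
import Cfsg.Prelude.Def_Characters
import Cfsg.Prelude.Def_Perm
import Cfsg.Agent.Lib.Helper20.CharColumn
import Cfsg.Agent.Lib.Helper83.Frob
import Cfsg.Agent.Lib.Helper4.PermChar
import Cfsg.Agent.Lib.Helper4.CharIntegral

/-!
# Transporter sums of class functions for a permutation action

`tsum χ a b = ∑_{g • a = b} χ g`.  Basic calculus (Frobenius reciprocity, orthogonality relations,
vanishing, integrality).
-/

set_option autoImplicit false
set_option linter.unusedSectionVars false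

namespace Cfsg.Agent.Lib.Helper96

open Cfsg
open scoped Classical
open scoped ComplexConjugate

section LinAlg

/-- If all eigenvalues are algebraic integers, so is the trace. -/
theorem isIntegral_trace_of_eigen {V : Type*} [AddCommGroup V] [Module ℂ V] [FiniteDimensional ℂ V]
    (X : Module.End ℂ V) (h : ∀ μ : ℂ, X.HasEigenvalue μ → IsIntegral ℤ μ) :
    IsIntegral ℤ (LinearMap.trace ℂ V X) := by
  rw [Module.End.trace_eq_sum_roots_charpoly_of_splits (IsAlgClosed.splits _)]
  refine IsIntegral.multiset_sum ?_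
  intro μ hμ
  refine h μ ?_
  rw [Module.End.hasEigenvalue_iff_isRoot_charpoly]
  exact (Polynomial.mem_roots'.1 hμ).2

/-- An eigenvalue of an integer matrix is an algebraic integer. -/
theorem isIntegral_of_int_matrix_eigen {ι : Type*} [Fintype ι] (A : Matrix ι ι ℤ) (w : ι → ℂ)
    (hw : w ≠ 0) (μ : ℂ) (h : (A.map (Int.cast : ℤ → ℂ)).mulVec w = μ • w) : IsIntegral ℤ μ := by
  have h1 : Module.End.HasEigenvalue (Matrix.toLin' (A.map (Int.cast : ℤ → ℂ))) μ := by
    refine Module.End.hasEigenvalue_of_hasEigenvector (x := w) ⟨?_, hw⟩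
    rw [Module.End.mem_eigenspace_iff]
    simpa using h
  rw [Module.End.hasEigenvalue_iff_isRoot_charpoly, Matrix.charpoly_toLin'] at h1
  have h2 : (A.map (Int.cast : ℤ → ℂ)) = A.map (Int.castRingHom ℂ) := rfl
  rw [h2, Matrix.charpoly_map] at h1
  refine ⟨A.charpoly, A.charpoly_monic, ?_⟩
  rw [Polynomial.IsRoot.def, Polynomial.eval_map] at h1
  exact h1

end LinAlg

section L9

variable {G : Type*} [Group G]

/-- If the sum of a character over a subgroup vanishes, so do the sums over its cosets. -/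
theorem sum_coset_eq_zero {χ : G → ℂ} (hχ : IsCharacter G χ) (K : Subgroup G) [Fintype K]
    (h0 : ∑ y : K, χ y = 0) (g : G) : ∑ y : K, χ (g * y) = 0 := by
  obtain ⟨n, ρ, rfl⟩ := hχ
  set T : Module.End ℂ (Fin n → ℂ) := ∑ y : K, ρ y with hT
  have hK : (Fintype.card K : ℂ) ≠ 0 := by
    exact_mod_cast Fintype.card_ne_zero
  have hTT : T * T = (Fintype.card K : ℂ) • T := by
    rw [hT, Finset.sum_mul]
    have : ∀ y : K, ρ (y : G) * ∑ z : K, ρ (z : G) = ∑ z : K, ρ (z : G) := by
      intro y
      rw [Finset.mul_sum]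
      refine Fintype.sum_equiv (Equiv.mulLeft y) _ _ ?_
      intro z
      simp
    rw [Finset.sum_congr rfl (fun y _ => this y)]
    simp [Finset.card_univ, Nat.cast_smul_eq_nsmul]
  have hidem : IsIdempotentElem ((Fintype.card K : ℂ)⁻¹ • T) := by
    unfold IsIdempotentElem
    rw [smul_mul_smul_comm, hTT, smul_smul, mul_assoc, inv_mul_cancel₀ hK, mul_one]
  have htr : LinearMap.trace ℂ _ ((Fintype.card K : ℂ)⁻¹ • T) = 0 := by
    rw [map_smul, hT, map_sum]
    have : ∑ y : K, LinearMap.trace ℂ (Fin n → ℂ) (ρ (y : G)) = 0 := h0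
    rw [this, smul_zero]
  have hz := LinearMap.IsIdempotentElem.eq_zero_of_trace_eq_zero hidem htr
  have hT0 : T = 0 := by
    have := congrArg (fun S => (Fintype.card K : ℂ) • S) hz
    simpa [smul_smul, hK] using this
  have : ∑ y : K, ρ.character (g * y) = LinearMap.trace ℂ _ (ρ g * T) := by
    rw [hT, Finset.mul_sum, map_sum]
    refine Finset.sum_congr rfl ?_
    intro y _
    simp [Representation.character]
  rw [this, hT0, mul_zero, map_zero]

end L9

section TS

variable {G : Type*} [Group G] [Fintype G] {Ω : Type*} [Fintype Ω] [MulAction G Ω]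

/-- The sum of `χ` over the elements carrying `a` to `b`. -/
noncomputable def tsum (χ : G → ℂ) (a b : Ω) : ℂ := ∑ g : G, if g • a = b then χ g else 0

theorem tsum_def (χ : G → ℂ) (a b : Ω) : tsum χ a b = ∑ g : G, if g • a = b then χ g else 0 := rfl

omit [Fintype G] in
theorem card_fixedBy_eq_sum (g : G) :
    (Nat.card (MulAction.fixedBy Ω g) : ℂ) = ∑ c : Ω, if g • c = c then (1 : ℂ) else 0 := by
  rw [Finset.sum_boole, Nat.card_eq_fintype_card, Fintype.card_subtype]
  rfl

theorem sum_tsum_diag (χ : G → ℂ) :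
    ∑ c : Ω, tsum χ c c = ∑ g, (Nat.card (MulAction.fixedBy Ω g) : ℂ) * χ g := by
  simp only [tsum_def, card_fixedBy_eq_sum, Finset.sum_mul]
  rw [Finset.sum_comm]
  refine Finset.sum_congr rfl fun g _ => Finset.sum_congr rfl fun c _ => ?_
  split_ifs <;> simp

theorem sum_tsum (χ : G → ℂ) (a : Ω) : ∑ b : Ω, tsum χ a b = ∑ g, χ g := by
  simp only [tsum_def]
  rw [Finset.sum_comm]
  refine Finset.sum_congr rfl fun g _ => ?_
  simp

theorem tsum_smul {χ : G → ℂ} (hχ : IsClassFunction G χ) (x : G) (a b : Ω) :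
    tsum χ (x • a) (x • b) = tsum χ a b := by
  simp only [tsum_def]
  symm
  refine Fintype.sum_equiv (MulAut.conj x).toEquiv _ _ ?_
  intro g
  have h1 : ((MulAut.conj x).toEquiv g) = x * g * x⁻¹ := rfl
  rw [h1, hχ g x]
  have h2 : (x * g * x⁻¹) • x • a = x • g • a := by simp [mul_smul]
  rw [h2]
  simp only [smul_left_cancel_iff]

theorem tsum_conj (χ : G → ℂ) (a b : Ω) : tsum (fun g => conj (χ g)) a b = conj (tsum χ a b) := by
  simp only [tsum_def, map_sum]
  refine Finset.sum_congr rfl fun g _ => ?_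
  split_ifs <;> simp

theorem tsum_eq_sum_stab (χ : G → ℂ) (a : Ω) (x : G) [Fintype (MulAction.stabilizer G a)] :
    tsum χ a (x • a) = ∑ h : MulAction.stabilizer G a, χ (x * h) := by
  rw [tsum_def, ← Finset.sum_filter]
  symm
  refine Finset.sum_bij (fun h _ => x * (h : G)) ?_ ?_ ?_ ?_
  · intro h _
    have := h.2
    rw [MulAction.mem_stabilizer_iff] at this
    simp [mul_smul, this]
  · intro h _ h' _ hh
    exact Subtype.ext (mul_left_cancel hh)
  · intro g hg
    refine ⟨⟨x⁻¹ * g, ?_⟩, Finset.mem_univ _, by simp⟩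
    rw [MulAction.mem_stabilizer_iff, mul_smul, (Finset.mem_filter.1 hg).2, inv_smul_smul]
  · intro h _
    rfl

theorem tsum_one_fun (a : Ω) (x : G) :
    tsum (fun _ : G => (1 : ℂ)) a (x • a) = (Nat.card (MulAction.stabilizer G a) : ℂ) := by
  rw [tsum_eq_sum_stab]
  simp [Nat.card_eq_fintype_card]

theorem card_mul_tsum_diag [MulAction.IsPretransitive G Ω] {χ : G → ℂ} (hχ : IsClassFunction G χ)
    (a : Ω) : (Fintype.card Ω : ℂ) * tsum χ a a
      = ∑ g, (Nat.card (MulAction.fixedBy Ω g) : ℂ) * χ g := by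
  rw [← sum_tsum_diag]
  have : ∀ c : Ω, tsum χ c c = tsum χ a a := by
    intro c
    obtain ⟨x, rfl⟩ := MulAction.exists_smul_eq G a c
    exact tsum_smul hχ x a a
  rw [Finset.sum_congr rfl fun c _ => this c]
  simp [Finset.card_univ]

theorem card_eq_card_mul_stab [MulAction.IsPretransitive G Ω] (a : Ω) :
    (Nat.card G : ℂ) = (Fintype.card Ω : ℂ) * (Nat.card (MulAction.stabilizer G a) : ℂ) := by
  have h := MulAction.index_stabilizer_of_transitive G a
  have h2 := (MulAction.stabilizer G a).index_mul_card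
  rw [h, Nat.card_eq_fintype_card (α := Ω)] at h2
  rw [← h2]
  push_cast
  rfl

/-- Frobenius reciprocity for the permutation character. -/
theorem classInner_perm [MulAction.IsPretransitive G Ω] {χ : G → ℂ} (hχ : IsClassFunction G χ)
    (a : Ω) : classInner (fun g : G => (Nat.card (MulAction.fixedBy Ω g) : ℂ)) χ
      = (Nat.card (MulAction.stabilizer G a) : ℂ)⁻¹ * conj (tsum χ a a) := by
  have hc : IsClassFunction G (fun g => conj (χ g)) := fun g h => by
    show conj (χ _) = _
    rw [hχ g h]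
  have h1 := card_mul_tsum_diag (Ω := Ω) hc a
  rw [tsum_conj] at h1
  unfold classInner
  rw [← h1, card_eq_card_mul_stab a]
  have hn : (Fintype.card Ω : ℂ) ≠ 0 := by
    have : Nonempty Ω := ⟨a⟩
    exact_mod_cast Fintype.card_ne_zero
  have hH : (Nat.card (MulAction.stabilizer G a) : ℂ) ≠ 0 := by
    exact_mod_cast Nat.card_pos.ne'
  field_simp

/-- Vanishing: a character without fixed vectors under the stabilizer has all transporter sums 0. -/
theorem tsum_eq_zero_of_diag [MulAction.IsPretransitive G Ω] {χ : G → ℂ} (hχ : IsCharacter G χ)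
    (a : Ω) (h0 : tsum χ a a = 0) (b : Ω) : tsum χ a b = 0 := by
  obtain ⟨x, rfl⟩ := MulAction.exists_smul_eq G a b
  rw [tsum_eq_sum_stab]
  refine sum_coset_eq_zero hχ _ ?_ x
  have := tsum_eq_sum_stab χ a (1 : G)
  rw [one_smul, h0] at this
  simpa using this.symm

/-- Second moment (row orthogonality of spherical functions). -/
theorem sum_tsum_mul_conj {χ ψ : G → ℂ} (hχ : IsIrrCharacter G χ) (hψ : IsIrrCharacter G ψ)
    (a : Ω) : ∑ b : Ω, tsum χ a b * conj (tsum ψ a b)
      = if ψ = χ then (Nat.card G : ℂ) * tsum χ a a / χ 1 else 0 := by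
  have hinv : ∀ g, conj (ψ g) = ψ g⁻¹ := fun g =>
    (Helper20.isCharacter_inv (Helper20.isCharacter_of_isIrrCharacter hψ) g).symm
  have h1 : ∀ b : Ω, tsum χ a b * conj (tsum ψ a b)
      = ∑ g' : G, ∑ g : G, if g • a = b ∧ g' • a = b then ψ g'⁻¹ * χ g else 0 := by
    intro b
    rw [← tsum_conj, tsum_def, tsum_def, Finset.sum_mul_sum, Finset.sum_comm]
    refine Finset.sum_congr rfl fun g' _ => Finset.sum_congr rfl fun g _ => ?_
    by_cases h1 : g • a = b <;> by_cases h2 : g' • a = b <;> simp [h1, h2, hinv, mul_comm]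
  rw [Finset.sum_congr rfl fun b _ => h1 b, Finset.sum_comm]
  have h2 : ∀ g' : G, ∑ b : Ω, ∑ g : G, (if g • a = b ∧ g' • a = b then ψ g'⁻¹ * χ g else 0)
      = ∑ h : G, if h • a = a then ψ g'⁻¹ * χ (g' * h) else 0 := by
    intro g'
    rw [Finset.sum_comm]
    symm
    refine Fintype.sum_equiv (Equiv.mulLeft g') _ _ ?_
    intro h
    rw [Finset.sum_eq_single (g' • a)]
    · simp [mul_smul]
    · intro b _ hb
      rw [if_neg]
      rintro ⟨_, h2⟩
      exact hb h2.symm
    · intro h
      exact absurd (Finset.mem_univ _) h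
  rw [Finset.sum_congr rfl fun g' _ => h2 g', Finset.sum_comm]
  have h3 : ∀ h : G, ∑ g' : G, (if h • a = a then ψ g'⁻¹ * χ (g' * h) else 0)
      = if h • a = a then (if ψ = χ then (Nat.card G : ℂ) * χ h / χ 1 else 0) else 0 := by
    intro h
    split_ifs with h1 h2
    · rw [Helper83.gen_orth hψ hχ h, if_pos h2]
    · rw [Helper83.gen_orth hψ hχ h, if_neg h2]
    · simp
  rw [Finset.sum_congr rfl fun h _ => h3 h]
  split_ifs with h4
  · rw [tsum_def, Finset.mul_sum, Finset.sum_div]
    refine Finset.sum_congr rfl fun h _ => ?_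
    split_ifs <;> simp
  · simp

/-- Column orthogonality. -/
theorem sum_irr_deg_mul_tsum [Fintype (IrrCharacter G)] (a b : Ω) :
    ∑ χ : IrrCharacter G, (χ : G → ℂ) 1 * tsum (χ : G → ℂ) a b
      = if a = b then (Nat.card G : ℂ) else 0 := by
  simp only [tsum_def, Finset.mul_sum]
  rw [Finset.sum_comm]
  have h1 : ∀ g : G, ∑ χ : IrrCharacter G, (χ : G → ℂ) 1 * (if g • a = b then (χ : G → ℂ) g else 0)
      = if g = 1 then (if a = b then (Nat.card G : ℂ) else 0) else 0 := by
    intro g
    by_cases hg : g • a = b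
    · simp only [hg, if_true]
      rw [Helper83.delta_expand g]
      split_ifs with h1 h2 h2
      · rfl
      · subst h1
        simp at hg
        exact absurd hg h2
      · rfl
    · simp only [hg, if_false, mul_zero, Finset.sum_const_zero]
      split_ifs with h1 h2
      · subst h1
        simp at hg
        exact absurd h2 hg
      · rfl
      · rfl
  rw [Finset.sum_congr rfl fun g _ => h1 g]
  simp

/-- Integrality: the normalised sum of a character over a union of double cosets of the point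
stabilizer is an algebraic integer. -/
theorem isIntegral_sum_tsum [MulAction.IsPretransitive G Ω] {χ : G → ℂ} (hχ : IsCharacter G χ)
    (a : Ω) (Δ : Finset Ω) (hΔ : ∀ h : G, h • a = a → ∀ d ∈ Δ, h • d ∈ Δ) :
    IsIntegral ℤ ((Nat.card (MulAction.stabilizer G a) : ℂ)⁻¹ * ∑ d ∈ Δ, tsum χ a d) := by
  obtain ⟨n, ρ, rfl⟩ := hχ
  set cH : ℂ := (Nat.card (MulAction.stabilizer G a) : ℂ) with hcH
  have hH : cH ≠ 0 := by
    rw [hcH]; exact_mod_cast Nat.card_pos.ne'
  set tOp : Ω → Module.End ℂ (Fin n → ℂ) := fun c => ∑ g : G, if g • a = c then ρ g else 0 with htOp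
  have trace_tOp : ∀ c, LinearMap.trace ℂ _ (tOp c) = tsum ρ.character a c := by
    intro c
    simp only [htOp, map_sum, tsum_def]
    refine Finset.sum_congr rfl fun g _ => ?_
    split_ifs <;> simp [Representation.character]
  have smul_tOp : ∀ (x : G) (c : Ω), ρ x * tOp c = tOp (x • c) := by
    intro x c
    simp only [htOp, Finset.mul_sum]
    refine Fintype.sum_equiv (Equiv.mulLeft x) _ _ ?_
    intro g
    simp only [Equiv.coe_mulLeft, mul_smul, smul_left_cancel_iff]
    split_ifs <;> simp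
  -- the stabilizer sum acts trivially on the left of the sum over `Δ`
  have hperm : ∀ h : G, h • a = a → ∑ d ∈ Δ, tOp (h • d) = ∑ d ∈ Δ, tOp d := by
    intro h hh
    refine Finset.sum_bij (fun d _ => h • d) (fun d hd => hΔ h hh d hd) ?_ ?_ ?_
    · intro d _ d' _ hdd
      exact smul_left_cancel h hdd
    · intro e he
      refine ⟨h⁻¹ • e, hΔ h⁻¹ ?_ e he, by simp⟩
      rw [inv_smul_eq_iff, hh]
    · intro d _
      rfl
  have hcount : (∑ g : G, if g • a = a then (1 : ℂ) else 0) = cH := by
    have := tsum_one_fun (G := G) a (1 : G)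
    rw [one_smul, tsum_def] at this
    exact this
  have hleft : tOp a * ∑ d ∈ Δ, tOp d = cH • ∑ d ∈ Δ, tOp d := by
    have h1 : tOp a * ∑ d ∈ Δ, tOp d
        = ∑ g : G, (if g • a = a then (1 : ℂ) else 0) • ∑ d ∈ Δ, tOp d := by
      simp only [htOp]
      rw [Finset.sum_mul]
      refine Finset.sum_congr rfl fun g _ => ?_
      split_ifs with hg
      · rw [one_smul, Finset.mul_sum]
        have := hperm g hg
        simp only [htOp] at this
        rw [← this]
        refine Finset.sum_congr rfl fun d _ => ?_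
        exact smul_tOp g d
      · simp
    rw [h1, ← Finset.sum_smul, hcount]
  set X : Module.End ℂ (Fin n → ℂ) := cH⁻¹ • ∑ d ∈ Δ, tOp d with hX
  have htrX : LinearMap.trace ℂ _ X = cH⁻¹ * ∑ d ∈ Δ, tsum ρ.character a d := by
    rw [hX, map_smul, map_sum, smul_eq_mul]
    simp only [trace_tOp]
  rw [← htrX]
  refine isIntegral_trace_of_eigen X ?_
  intro μ hμ
  by_cases hμ0 : μ = 0
  · rw [hμ0]; exact isIntegral_zero
  obtain ⟨v, hv⟩ := hμ.exists_hasEigenvector
  have hXv : X v = μ • v := Module.End.mem_eigenspace_iff.1 hv.1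
  have hv0 : v ≠ 0 := hv.2
  set vv : Ω → (Fin n → ℂ) := fun c => cH⁻¹ • tOp c v with hvv
  have key1 : ∀ (x : G) (c : Ω), ρ x (vv c) = vv (x • c) := by
    intro x c
    simp only [hvv, map_smul]
    rw [← smul_tOp x c]
    rfl
  have key2 : vv a = v := by
    have h1 : (cH⁻¹ • tOp a) * X = X := by
      rw [hX, smul_mul_smul_comm, hleft, smul_smul, mul_assoc, inv_mul_cancel₀ hH, mul_one]
    have h2 : (cH⁻¹ • tOp a) (X v) = X v := by
      rw [← Module.End.mul_apply, h1]
    rw [hXv, map_smul] at h2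
    have h3 := smul_right_injective _ hμ0 h2
    simpa [hvv] using h3
  have key3 : ∑ d ∈ Δ, vv d = μ • v := by
    rw [← hXv, hX]
    simp [hvv, Finset.smul_sum, LinearMap.sum_apply]
  have key4 : ∀ x : G, ∑ d ∈ Δ, vv (x • d) = μ • vv (x • a) := by
    intro x
    rw [← key1 x a, key2, ← map_smul, ← key3, map_sum]
    refine Finset.sum_congr rfl fun d _ => (key1 x d).symm
  obtain ⟨i, hi⟩ : ∃ i, v i ≠ 0 := by
    by_contra hcon
    push Not at hcon
    exact hv0 (funext hcon)
  set A : Matrix Ω Ω ℤ :=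
    Matrix.of fun c e => if ∃ x : G, x • a = c ∧ x⁻¹ • e ∈ Δ then 1 else 0 with hA
  refine isIntegral_of_int_matrix_eigen A (fun c => vv c i) ?_ μ ?_
  · intro hcon
    have := congrFun hcon a
    simp only [key2] at this
    exact hi this
  · funext c
    obtain ⟨x, rfl⟩ := MulAction.exists_smul_eq G a c
    have hrow : ∀ e : Ω, (∃ y : G, y • a = x • a ∧ y⁻¹ • e ∈ Δ) ↔ x⁻¹ • e ∈ Δ := by
      intro e
      constructor
      · rintro ⟨y, hy, hye⟩
        have h1 : (x⁻¹ * y) • a = a := by rw [mul_smul, hy, inv_smul_smul]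
        have := hΔ _ h1 _ hye
        rwa [mul_smul, smul_inv_smul] at this
      · intro he
        exact ⟨x, rfl, he⟩
    have h5 := congrFun (key4 x) i
    simp only [Finset.sum_apply, Pi.smul_apply, smul_eq_mul] at h5
    simp only [Matrix.mulVec, dotProduct, Matrix.map_apply, hA, Matrix.of_apply, Pi.smul_apply,
      smul_eq_mul, hrow]
    rw [← h5]
    have h6 : ∀ e : Ω, ((if x⁻¹ • e ∈ Δ then (1 : ℤ) else 0 : ℤ) : ℂ) * vv e i
        = if x⁻¹ • e ∈ Δ then vv e i else 0 := by
      intro e
      split_ifs <;> simp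
    rw [Finset.sum_congr rfl fun e _ => h6 e, ← Finset.sum_filter]
    symm
    refine Finset.sum_bij (fun d _ => x • d) ?_ ?_ ?_ ?_
    · intro d hd
      simp [hd]
    · intro d _ d' _ hdd
      exact smul_left_cancel x hdd
    · intro e he
      exact ⟨x⁻¹ • e, (Finset.mem_filter.1 he).2, by simp⟩
    · intro d _
      rfl

end TS

end Cfsg.Agent.Lib.Helper96
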